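import Cfsg.Agent.Lib.KnownSimple.J3Lab.OutR
import Cfsg.Agent.Lib.KnownSimple.J3Lab.CentA

/-! Data and checks for the centraliser of an involution in the third Janko group. -/

set_option autoImplicit false
set_option maxRecDepth 100000

namespace Cfsg.Agent.Lib.KnownSimple.J3Lab.Ot

open Cfsg.Agent.Lib.KnownSimple.Lab Cfsg.Agent.Lib.KnownSimple.LabField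
open Cfsg.Agent.Lib.KnownSimple.LabVec Cfsg.Agent.Lib.KnownSimple.LabChev Cfsg.Agent.Lib.KnownSimple.LabPack
open Cfsg.Agent.Lib.KnownSimple.LabLevels Cfsg.Agent.Lib.KnownSimple.LabJ3
open Cfsg.Agent.Lib.KnownSimple.J3Lab.Cn Cfsg.Agent.Lib.ThreeTrans.ES2

/-- Generators of the normal subgroup. -/
def gQL : List (List ℕ) := [[1, 2, 3, 0, 3, 0, 3, 0, 3, 0, 3, 2, 1, 1, 1, 0, 1, 2, 1, 2, 1, 2, 1, 2, 1, 0, 1, 1],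
  [1, 1, 0, 1, 2, 1, 2, 1, 2, 1, 2, 1, 0, 1, 1, 1, 2, 3, 0, 3, 0, 3, 0, 3, 0, 3, 2, 1],
  [3, 3, 3],
  [2, 3, 3, 2, 1, 2, 3, 2, 3, 2, 1, 2, 3, 3, 2, 1, 0, 1, 2, 1, 2, 1, 2, 1, 2, 1, 0, 1],
  [1, 1, 1, 1, 1, 1]]

/-- The elements of the normal subgroup. -/
def LQL : List (List ℕ) := [[],
  [1, 2, 3, 0, 3, 0, 3, 0, 3, 0, 3, 2, 1, 1, 1, 0, 1, 2, 1, 2, 1, 2, 1, 2, 1, 0, 1, 1],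
  [1, 1, 0, 1, 2, 1, 2, 1, 2, 1, 2, 1, 0, 1, 1, 1, 2, 3, 0, 3, 0, 3, 0, 3, 0, 3, 2, 1],
  [0, 1, 2, 1, 2, 1, 2, 1, 2, 1, 0, 3, 3, 3, 2, 3, 0, 3, 0, 3, 0, 3, 0, 3, 2],
  [3, 3, 3],
  [1, 0, 1, 2, 1, 2, 1, 2, 1, 2, 1, 0, 1, 1, 1, 2, 3, 0, 3, 0, 3, 0, 3, 0, 3, 2, 3],
  [3, 2, 3, 0, 3, 0, 3, 0, 3, 0, 3, 2, 1, 1, 1, 0, 1, 2, 1, 2, 1, 2, 1, 2, 1, 0, 1],
  [3, 3, 3, 0, 1, 2, 1, 2, 1, 2, 1, 2, 1, 0, 3, 3, 3, 2, 3, 0, 3, 0, 3, 0, 3, 0, 3, 2],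
  [2, 3, 3, 2, 1, 2, 3, 2, 3, 2, 1, 2, 3, 3, 2, 1, 0, 1, 2, 1, 2, 1, 2, 1, 2, 1, 0, 1],
  [0, 1, 2, 1, 2, 1, 2, 1, 2, 1, 0, 1, 2, 3, 3, 2, 1, 2, 3, 2, 3, 2, 1, 2, 3, 3, 2, 1],
  [0, 1, 2, 1, 2, 1, 2, 1, 2, 1, 0, 3, 3, 2, 3, 3, 2, 1, 2, 3, 2, 3, 2, 1, 2, 3, 3, 2, 1],
  [2, 3, 0, 1, 1, 2, 1, 1, 1, 1, 0, 3, 2, 3, 2, 3, 2, 1, 2, 3, 2, 1, 0, 3, 0, 1, 1, 2, 1, 2, 1],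
  [0, 1, 1, 0, 3, 0, 1, 0, 1, 0, 3, 0, 1, 1, 0, 3, 2, 3, 0, 3, 0, 3, 0, 3, 0, 3, 2, 3],
  [2, 3, 0, 3, 0, 3, 0, 3, 0, 3, 2, 1, 1, 0, 1, 1, 0, 3, 0, 1, 0, 1, 0, 3, 0, 1, 1, 0, 3],
  [2, 3, 0, 3, 0, 3, 0, 3, 0, 3, 2, 3, 0, 1, 1, 0, 3, 0, 1, 0, 1, 0, 3, 0, 1, 1, 0, 3],
  [2, 1, 2, 3, 2, 1, 0, 3, 0, 1, 1, 2, 1, 2, 3, 2, 3, 2, 3, 0, 1, 1, 1, 1, 2, 1, 1, 0, 3, 2, 1],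
  [1, 1, 1, 1, 1, 1],
  [1, 2, 3, 0, 3, 0, 3, 0, 3, 0, 3, 2, 3, 3, 3, 0, 1, 2, 1, 2, 1, 2, 1, 2, 1, 0, 1, 1],
  [1, 1, 2, 3, 0, 3, 0, 3, 0, 3, 0, 3, 2, 3, 3, 3, 0, 1, 2, 1, 2, 1, 2, 1, 2, 1, 0, 1],
  [0, 1, 2, 1, 2, 1, 2, 1, 2, 1, 0, 1, 1, 1, 2, 3, 0, 3, 0, 3, 0, 3, 0, 3, 2],
  [1, 1, 1],
  [1, 0, 1, 2, 1, 2, 1, 2, 1, 2, 1, 0, 3, 3, 3, 2, 3, 0, 3, 0, 3, 0, 3, 0, 3, 2, 3],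
  [3, 2, 3, 0, 3, 0, 3, 0, 3, 0, 3, 2, 3, 3, 3, 0, 1, 2, 1, 2, 1, 2, 1, 2, 1, 0, 1],
  [1, 1, 1, 0, 1, 2, 1, 2, 1, 2, 1, 2, 1, 0, 3, 3, 3, 2, 3, 0, 3, 0, 3, 0, 3, 0, 3, 2],
  [3, 2, 3, 0, 3, 0, 3, 0, 3, 0, 3, 2, 3, 0, 1, 1, 0, 3, 0, 1, 0, 1, 0, 3, 0, 1, 1, 0],
  [3, 0, 1, 1, 0, 3, 0, 1, 0, 1, 0, 3, 0, 1, 1, 0, 3, 2, 3, 0, 3, 0, 3, 0, 3, 0, 3, 2],
  [3, 3, 2, 3, 3, 2, 1, 2, 3, 2, 3, 2, 1, 2, 3, 3, 2, 1, 0, 1, 2, 1, 2, 1, 2, 1, 2, 1, 0],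
  [0, 3, 0, 3, 3, 2, 1, 2, 3, 0, 1, 0, 3, 0, 1, 0, 1, 0, 1, 2, 3, 3, 3, 3, 0, 3, 3, 2, 1, 0, 3],
  [1, 0, 1, 2, 1, 2, 1, 2, 1, 2, 1, 0, 1, 2, 3, 3, 2, 1, 2, 3, 2, 3, 2, 1, 2, 3, 3, 2],
  [1, 1, 0, 1, 1, 0, 3, 0, 1, 0, 1, 0, 3, 0, 1, 1, 0, 3, 2, 3, 0, 3, 0, 3, 0, 3, 0, 3, 2],
  [1, 2, 3, 3, 2, 1, 2, 3, 2, 3, 2, 1, 2, 3, 3, 2, 1, 0, 1, 2, 1, 2, 1, 2, 1, 2, 1, 0],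
  [1, 2, 1, 2, 3, 2, 1, 0, 3, 0, 1, 1, 2, 1, 2, 3, 2, 3, 2, 3, 0, 1, 1, 1, 1, 2, 1, 1, 0, 3, 2]]

/-- The action of the generators. -/
def tauQL : List (List ℕ) := [[1, 0, 19, 18, 5, 4, 23, 22, 9, 8, 27, 26, 13, 12, 31, 30, 17, 16, 3, 2, 21, 20, 7, 6, 25, 24, 11, 10, 29, 28, 15, 14],
  [2, 3, 0, 1, 6, 7, 4, 5, 10, 11, 8, 9, 14, 15, 12, 13, 18, 19, 16, 17, 22, 23, 20, 21, 26, 27, 24, 25, 30, 31, 28, 29],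
  [4, 5, 6, 7, 16, 17, 18, 19, 28, 29, 30, 31, 8, 9, 10, 11, 20, 21, 22, 23, 0, 1, 2, 3, 12, 13, 14, 15, 24, 25, 26, 27],
  [8, 9, 10, 11, 12, 13, 14, 15, 16, 17, 18, 19, 20, 21, 22, 23, 24, 25, 26, 27, 28, 29, 30, 31, 0, 1, 2, 3, 4, 5, 6, 7],
  [16, 17, 18, 19, 20, 21, 22, 23, 24, 25, 26, 27, 28, 29, 30, 31, 0, 1, 2, 3, 4, 5, 6, 7, 8, 9, 10, 11, 12, 13, 14, 15]]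

/-- The tree. -/
def prQL : List ℕ := [0, 0, 0, 1, 0, 1, 2, 3, 0, 1, 2, 3, 4, 5, 6, 7, 0, 1, 2, 3, 4, 5, 6, 7, 8, 9, 10, 11, 12, 13, 14, 15]

/-- The tree. -/
def gnQL : List ℕ := [0, 0, 1, 1, 2, 2, 2, 2, 3, 3, 3, 3, 3, 3, 3, 3, 4, 4, 4, 4, 4, 4, 4, 4, 4, 4, 4, 4, 4, 4, 4, 4]

/-- Signatures. -/
def sgQL : List ℕ := [0, 2913, 10452, 34227, 3777, 49432, 472, 26497, 22106, 28140, 4103, 12695, 47305, 56831, 22063, 48043, 49749, 6922, 25189, 43662, 54974, 58173, 2810, 56217, 69707, 29701, 30184, 64018, 30587, 46082, 18326, 1782]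

/-- Generators of the complement. -/
def gAL : List (List ℕ) := [[1, 0, 1, 2, 1, 2, 1, 2, 1, 2, 1, 0],
  [2, 1, 1, 2, 3, 0, 3, 3, 3, 0, 1, 2, 3, 0, 1, 2, 1, 1, 2, 3, 0, 3, 0, 3, 0, 3, 0, 3, 2, 1, 1]]

/-- The elements of the complement. -/
def LAL : List (List ℕ) := [[],
  [1, 0, 1, 2, 1, 2, 1, 2, 1, 2, 1, 0],
  [2, 1, 1, 2, 3, 0, 3, 3, 3, 0, 1, 2, 3, 0, 1, 2, 1, 1, 2, 3, 0, 3, 0, 3, 0, 3, 0, 3, 2, 1, 1],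
  [1, 1, 1, 2, 1, 0, 3, 2, 1, 0, 3, 3, 3, 0, 3, 2, 1, 1, 2, 3, 3, 3],
  [3, 3, 3, 2, 3, 0, 3, 0, 3, 0, 3, 0, 3, 2, 3, 3, 2, 3, 0, 3, 0, 3, 0, 3, 0, 3, 2],
  [3, 3, 2, 3, 0, 3, 0, 3, 0, 3, 0, 3, 2, 3, 3, 3, 2, 3, 0, 3, 0, 3, 0, 3, 0, 3, 2],
  [2, 3, 0, 3, 0, 3, 0, 3, 0, 3, 2, 3, 2, 3, 0, 3, 0, 3, 0, 3, 0, 3, 2, 3],
  [1, 1, 0, 3, 0, 3, 3, 2, 1, 2, 3, 0, 1, 0, 3, 0, 2, 3, 0, 3, 0, 3, 0, 3, 0, 3, 2],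
  [1, 2, 3, 0, 3, 0, 3, 0, 3, 0, 3, 2, 1, 1, 0, 3, 0, 3, 3, 2, 1, 2, 3, 0, 1, 0, 3, 0, 3],
  [0, 3, 0, 3, 3, 2, 1, 2, 3, 0, 1, 0, 3, 0, 1, 1, 2, 3, 0, 3, 0, 3, 0, 3, 0, 3, 2],
  [3, 2, 1, 0, 3, 2, 1, 0, 3, 3, 3, 0, 3, 2, 1, 1, 2, 2, 3, 0, 3, 0, 3, 0, 3, 0, 3, 2],
  [2, 3, 0, 3, 0, 3, 0, 3, 0, 3, 2, 3],
  [0, 1, 2, 1, 2, 1, 2, 1, 2, 1, 0, 3, 3, 2, 1, 2, 3, 2, 1, 0, 3, 0, 1, 1, 2, 1, 2],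
  [3, 2, 1, 2, 3, 2, 1, 0, 3, 0, 1, 1, 2, 1, 2, 0, 1, 2, 1, 2, 1, 2, 1, 2, 1, 0, 3],
  [3, 3, 0, 1, 2, 3, 3, 0, 3, 3, 3, 3, 2, 1, 0, 1, 0, 1, 1],
  [0, 1, 2, 1, 2, 1, 2, 1, 2, 1, 0, 1, 1, 0, 1, 2, 1, 2, 1, 2, 1, 2, 1, 0, 1, 1, 1],
  [0, 1, 2, 1, 2, 1, 2, 1, 2, 1, 0, 2, 1, 2, 3, 2, 1, 0, 3, 0, 1, 1, 2, 1, 2, 3, 3],
  [1, 1, 1, 1, 2, 1, 1, 2, 1, 0, 1, 0, 1, 0, 3, 3, 2, 3, 0, 1, 1],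
  [0, 1, 2, 1, 2, 1, 2, 1, 2, 1, 0, 1, 1, 1, 0, 1, 2, 1, 2, 1, 2, 1, 2, 1, 0, 1, 1],
  [3, 3, 0, 1, 2, 1, 2, 1, 2, 1, 2, 1, 0, 3, 3, 3, 3, 0, 1, 2, 1, 2, 1, 2, 1, 2, 1, 0, 3],
  [3, 3, 0, 1, 2, 1, 2, 1, 2, 1, 2, 1, 0, 3, 3, 0, 3, 0, 3, 3, 2, 1, 2, 3, 0, 1, 0, 3, 0, 3],
  [3, 3, 3, 0, 1, 2, 1, 2, 1, 2, 1, 2, 1, 0, 2, 1, 1, 2, 1, 0, 1, 0, 1, 0, 3, 3, 2, 3, 0, 1],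
  [3, 2, 1, 2, 3, 2, 1, 0, 3, 0, 1, 1, 2, 1, 2, 1, 0, 3, 0, 3, 3, 2, 1, 2, 3, 0, 1, 0, 3, 0],
  [0, 3, 2, 3, 2, 1, 0, 3, 2, 3, 3, 3, 2, 1, 0, 1, 1],
  [1, 1, 1, 1, 2, 1, 0, 1, 1, 2, 3, 2, 3, 2, 3, 0, 3, 3, 0, 1, 1],
  [1, 2, 3, 0, 1, 1, 1, 0, 1, 2, 3, 0, 1, 0, 1, 2, 2, 1, 0, 1, 0, 3, 2, 1, 0, 1, 1, 1, 0, 3, 2],
  [2, 1, 0, 3, 2, 1, 0, 3, 3, 3, 0, 3, 2, 1, 1, 2, 1, 1, 1, 0, 1, 2, 1, 2, 1, 2, 1, 2, 1, 0, 1],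
  [3, 3, 0, 3, 0, 1, 1, 0, 1, 2, 3, 0, 1, 1, 1, 1, 1, 2, 2, 3, 0, 3, 0, 3, 0, 3, 0, 3, 2, 3, 3],
  [2, 1, 1, 2, 3, 0, 3, 3, 3, 0, 1, 2, 3, 0, 1, 2, 3, 3, 0, 1, 2, 1, 2, 1, 2, 1, 2, 1, 0, 3],
  [3, 0, 3, 0, 1, 1, 0, 1, 2, 3, 0, 1, 1, 1, 1, 1, 2, 1, 0, 3, 0, 3, 3, 2, 1, 2, 3, 0, 1, 0, 3, 0],
  [1, 1, 1, 0, 3, 0, 1, 1, 0, 1, 2, 3, 0, 1, 1, 1, 1, 1, 2, 3, 3, 3],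
  [1, 0, 3, 0, 3, 3, 2, 1, 2, 3, 0, 1, 0, 3, 0, 3, 2, 1, 2, 3, 2, 1, 0, 3, 0, 1, 1, 2, 1, 2],
  [1, 1, 2, 3, 0, 3, 0, 3, 0, 3, 0, 3, 2, 1, 1, 1, 1, 2, 3, 0, 3, 0, 3, 0, 3, 0, 3, 2, 1],
  [0, 3, 3, 3, 2, 3, 3, 0, 1, 2, 3, 0, 3, 0, 0, 1, 2, 1, 2, 1, 2, 1, 2, 1, 0],
  [1, 1, 0, 1, 2, 1, 2, 1, 2, 1, 2, 1, 0, 0, 3, 0, 3, 2, 1, 0, 3, 3, 2, 3, 3, 3, 0],
  [1, 2, 3, 0, 3, 0, 3, 0, 3, 0, 3, 2, 1, 1, 1, 1, 2, 3, 0, 3, 0, 3, 0, 3, 0, 3, 2, 1, 1],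
  [3, 3, 2, 3, 2, 3, 0, 1, 1, 1, 1, 2, 1, 1, 0, 3, 2, 1, 1],
  [1, 2, 1, 2, 3, 2, 1, 0, 3, 0, 1, 1, 2, 1, 2, 1, 1, 2, 3, 0, 3, 0, 3, 0, 3, 0, 3, 2, 1, 1],
  [2, 1, 2, 3, 2, 1, 0, 3, 0, 1, 1, 2, 1, 2, 3, 0, 1, 2, 1, 2, 1, 2, 1, 2, 1, 0, 3],
  [0, 1, 2, 1, 2, 1, 2, 1, 2, 1, 0, 3, 3, 0, 3, 0, 1, 1, 0, 1, 2, 3, 0, 1, 1, 1, 1, 1, 2],
  [1, 0, 3, 0, 3, 3, 2, 1, 2, 3, 0, 1, 0, 3, 0, 1, 2, 3, 0, 3, 0, 3, 0, 3, 0, 3, 2],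
  [1, 2, 3, 0, 3, 0, 3, 0, 3, 0, 3, 2, 1, 0, 3, 0, 3, 3, 2, 1, 2, 3, 0, 1, 0, 3, 0],
  [3, 3, 3, 0, 1, 2, 1, 2, 1, 2, 1, 2, 1, 0, 3, 3, 0, 3, 0, 3, 3, 2, 1, 2, 3, 0, 1, 0, 3, 0],
  [0, 1, 2, 1, 2, 1, 2, 1, 2, 1, 0, 1, 2, 3, 0, 3, 3, 2, 3, 3, 2, 1, 2, 1, 0, 1, 1, 2],
  [0, 1, 2, 1, 2, 1, 2, 1, 2, 1, 0, 3, 2, 1, 2, 3, 2, 1, 0, 3, 0, 1, 1, 2, 1, 2, 3],
  [3, 0, 1, 2, 1, 2, 1, 2, 1, 2, 1, 0, 3, 3, 3, 3, 0, 1, 2, 1, 2, 1, 2, 1, 2, 1, 0, 3, 3],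
  [2, 3, 0, 3, 0, 3, 0, 3, 0, 3, 2, 2, 1, 2, 1, 0, 3, 2, 1, 1, 0, 1, 1, 1, 2],
  [1, 2, 1, 2, 1, 0, 3, 2, 1, 1, 0, 1, 1, 1, 2, 2, 3, 0, 3, 0, 3, 0, 3, 0, 3, 2, 3],
  [3, 0, 3, 0, 3, 2, 1, 0, 3, 3, 2, 3, 3, 3, 0, 1, 1, 1, 2, 3, 0, 3, 0, 3, 0, 3, 0, 3, 2, 1],
  [0, 1, 2, 1, 2, 1, 2, 1, 2, 1, 0, 2, 1, 1, 1, 0, 1, 1, 2, 3, 0, 1, 2, 1, 2],
  [3, 2, 1, 2, 1, 0, 3, 2, 1, 1, 0, 1, 1, 1, 2, 3, 3, 3, 0, 1, 2, 1, 2, 1, 2, 1, 2, 1, 0],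
  [3, 2, 1, 2, 1, 0, 3, 2, 1, 1, 0, 1, 1, 1, 2, 3, 3, 3, 3],
  [1, 2, 1, 2, 1, 0, 3, 2, 1, 1, 0, 1, 1, 1, 2],
  [1, 1, 0, 1, 2, 1, 2, 1, 2, 1, 2, 1, 0, 3, 3, 2, 1, 1, 2, 3, 2, 1, 1, 1, 1, 1, 0, 1, 0, 1, 2],
  [0, 3, 0, 3, 2, 1, 0, 3, 3, 2, 3, 3, 3, 0, 3, 3, 2, 1, 2, 3, 2, 1, 0, 3, 0, 1, 1, 2, 1, 2],
  [3, 2, 1, 0, 3, 2, 1, 0, 3, 3, 3, 0, 3, 2, 1, 1, 2, 2, 1, 1, 1, 0, 1, 1, 2, 3, 0, 1, 2, 1, 2],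
  [2, 3, 0, 1, 1, 1, 0, 1, 2, 3, 0, 1, 0, 1, 2, 1, 1, 1, 1],
  [1, 0, 1, 2, 1, 2, 1, 2, 1, 2, 1, 0, 1, 2, 1, 2, 1, 0, 3, 2, 1, 1, 0, 1, 1, 1, 2],
  [3, 0, 1, 2, 1, 2, 1, 2, 1, 2, 1, 0, 3, 3, 3, 2, 1, 1, 1, 0, 1, 1, 2, 3, 0, 1, 2, 1, 2, 1],
  [1, 0, 3, 3, 0, 3, 2, 3, 2, 3, 2, 1, 1, 0, 1, 2, 0, 3, 0, 3, 2, 1, 0, 3, 3, 2, 3, 3, 3, 0, 1]]

/-- The action of the generators. -/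
def tauAL : List (List ℕ) := [[1, 3, 5, 6, 8, 9, 11, 13, 14, 16, 18, 0, 19, 20, 22, 2, 15, 25, 26, 27, 29, 4, 21, 24, 32, 33, 35, 37, 7, 28, 31, 40, 41, 43, 10, 34, 12, 36, 39, 47, 48, 49, 17, 42, 45, 46, 52, 53, 54, 23, 51, 56, 57, 58, 30, 50, 59, 44, 38, 55],
  [2, 4, 0, 7, 1, 10, 12, 3, 15, 17, 5, 18, 6, 21, 23, 8, 24, 9, 11, 28, 30, 13, 31, 14, 16, 34, 36, 38, 19, 39, 20, 22, 42, 44, 25, 45, 26, 46, 27, 29, 49, 50, 32, 51, 33, 35, 37, 54, 55, 40, 41, 43, 58, 59, 47, 48, 57, 56, 52, 53]]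

/-- The tree. -/
def prAL : List ℕ := [0, 0, 0, 1, 1, 2, 3, 3, 4, 5, 5, 6, 6, 7, 8, 8, 9, 9, 10, 12, 13, 13, 14, 14, 16, 17, 18, 19, 19, 20, 20, 22, 24, 25, 25, 26, 26, 27, 27, 29, 31, 32, 32, 33, 33, 35, 37, 39, 40, 40, 41, 43, 46, 47, 47, 48, 51, 52, 52, 53]

/-- The tree. -/
def gnAL : List ℕ := [0, 0, 1, 0, 1, 0, 0, 1, 0, 0, 1, 0, 1, 0, 0, 1, 0, 1, 0, 0, 0, 1, 0, 1, 1, 0, 0, 0, 1, 0, 1, 1, 0, 0, 1, 0, 1, 0, 1, 1, 0, 0, 1, 0, 1, 1, 1, 0, 0, 1, 1, 1, 0, 0, 1, 1, 0, 0, 1, 1]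

/-- Signatures. -/
def sgAL : List ℕ := [0, 49629, 1940, 4562, 41699, 61939, 45052, 46863, 49275, 6991, 64751, 20371, 53678, 38584, 58616, 15453, 38327, 45143, 62891, 3060, 14862, 51617, 4267, 41451, 63983, 65731, 38082, 61966, 31702, 12715, 9587, 38536, 12231, 21547, 62779, 13008, 61914, 36888, 36582, 40024, 40040, 64606, 22781, 66, 34594, 47215, 55087, 2543, 31630, 68284, 38453, 51225, 1782, 60343, 2022, 60909, 33698, 23350, 37750, 59470]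

/-- The words in the alternating group. -/
def wAL : List (List ℕ) := [[],
  [0],
  [1],
  [0, 0],
  [1, 0],
  [0, 1],
  [0, 0, 0],
  [1, 0, 0],
  [0, 1, 0],
  [0, 0, 1],
  [1, 0, 1],
  [0, 0, 0, 0],
  [1, 0, 0, 0],
  [0, 1, 0, 0],
  [0, 0, 1, 0],
  [1, 0, 1, 0],
  [0, 0, 0, 1],
  [1, 0, 0, 1],
  [0, 1, 0, 1],
  [0, 1, 0, 0, 0],
  [0, 0, 1, 0, 0],
  [1, 0, 1, 0, 0],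
  [0, 0, 0, 1, 0],
  [1, 0, 0, 1, 0],
  [1, 0, 0, 0, 1],
  [0, 1, 0, 0, 1],
  [0, 0, 1, 0, 1],
  [0, 0, 1, 0, 0, 0],
  [1, 0, 1, 0, 0, 0],
  [0, 0, 0, 1, 0, 0],
  [1, 0, 0, 1, 0, 0],
  [1, 0, 0, 0, 1, 0],
  [0, 1, 0, 0, 0, 1],
  [0, 0, 1, 0, 0, 1],
  [1, 0, 1, 0, 0, 1],
  [0, 0, 0, 1, 0, 1],
  [1, 0, 0, 1, 0, 1],
  [0, 0, 0, 1, 0, 0, 0],
  [1, 0, 0, 1, 0, 0, 0],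
  [1, 0, 0, 0, 1, 0, 0],
  [0, 1, 0, 0, 0, 1, 0],
  [0, 0, 1, 0, 0, 0, 1],
  [1, 0, 1, 0, 0, 0, 1],
  [0, 0, 0, 1, 0, 0, 1],
  [1, 0, 0, 1, 0, 0, 1],
  [1, 0, 0, 0, 1, 0, 1],
  [1, 0, 0, 0, 1, 0, 0, 0],
  [0, 1, 0, 0, 0, 1, 0, 0],
  [0, 0, 1, 0, 0, 0, 1, 0],
  [1, 0, 1, 0, 0, 0, 1, 0],
  [1, 0, 0, 1, 0, 0, 0, 1],
  [1, 0, 0, 0, 1, 0, 0, 1],
  [0, 1, 0, 0, 0, 1, 0, 0, 0],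
  [0, 0, 1, 0, 0, 0, 1, 0, 0],
  [1, 0, 1, 0, 0, 0, 1, 0, 0],
  [1, 0, 0, 1, 0, 0, 0, 1, 0],
  [0, 1, 0, 0, 0, 1, 0, 0, 1],
  [0, 0, 1, 0, 0, 0, 1, 0, 0, 0],
  [1, 0, 1, 0, 0, 0, 1, 0, 0, 0],
  [1, 0, 0, 1, 0, 0, 0, 1, 0, 0]]

/-- The normalisation table. -/
def nuL : List (List ℕ) := [[27, 15, 21, 22, 16],
  [27, 15, 3, 5, 16]]

/-- The model in the alternating group. -/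
def bA (i : ℕ) : ↥(alternatingGroup (Fin 5)) := (wAL.getD i []).foldr (fun l acc => rhoA l * acc) 1

theorem c_Qtau : ∀ a < 5, ∀ i < 32, (tauQL.getD a []).getD i 0 < 32 ∧
    (∀ l ∈ gQL.getD a [], l < 4) ∧ (∀ l ∈ LQL.getD i [], l < 4) ∧
    chkL bsL (gQL.getD a [] ++ (LQL.getD i [] ++ invW (LQL.getD ((tauQL.getD a []).getD i 0) []))) = true := by decide +kernel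

theorem c_Atau : ∀ a < 2, ∀ i < 60, (tauAL.getD a []).getD i 0 < 60 ∧
    (∀ l ∈ gAL.getD a [], l < 4) ∧ (∀ l ∈ LAL.getD i [], l < 4) ∧
    chkL bsL (gAL.getD a [] ++ (LAL.getD i [] ++ invW (LAL.getD ((tauAL.getD a []).getD i 0) []))) = true := by decide +kernel

theorem c_Q0 : LQL.getD 0 [] = [] := by decide +kernel
theorem c_A0 : LAL.getD 0 [] = [] := by decide +kernel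

theorem c_Qsig : ∀ i < 32, walk V (LQL.getD i []) 0 = sgQL.getD i 0 := by decide +kernel
theorem c_Qsig2 : ∀ i < 32, ∀ j < 32, sgQL.getD i 0 = sgQL.getD j 0 → i = j := by decide +kernel
theorem c_Asig : ∀ i < 60, walk V (LAL.getD i []) 0 = sgAL.getD i 0 := by decide +kernel
theorem c_Asig2 : ∀ i < 60, ∀ j < 60, sgAL.getD i 0 = sgAL.getD j 0 → i = j := by decide +kernel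

theorem c_Qtree : ∀ i < 32, 0 < i → prQL.getD i 0 < i ∧ gnQL.getD i 0 < 5 ∧
    (tauQL.getD (gnQL.getD i 0) []).getD (prQL.getD i 0) 0 = i := by decide +kernel
theorem c_Atree : ∀ i < 60, 0 < i → prAL.getD i 0 < i ∧ gnAL.getD i 0 < 2 ∧
    (tauAL.getD (gnAL.getD i 0) []).getD (prAL.getD i 0) 0 = i := by decide +kernel

theorem c_Qw : ∀ i < 32, 0 < i → 3 ≤ walk U (LQL.getD i []) 0 := by decide +kernel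
theorem c_Aw : ∀ i < 60, 0 < i → 3 ≤ walk U (LAL.getD i []) 0 := by decide +kernel

theorem c_bQ : ∀ a < 5, ∀ i < 32, bQ ((tauQL.getD a []).getD i 0) = bQ (2 ^ a) * bQ i := by decide +kernel
theorem c_bQk : ∀ i < 32, bQ i = 1 → i = 0 := by decide +kernel
theorem c_bQ0 : bQ 0 = 1 := by decide +kernel

theorem c_bA : ∀ a < 2, ∀ i < 60, bA ((tauAL.getD a []).getD i 0) = rhoA a * bA i := by decide +kernel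
theorem c_bAk : ∀ i < 60, bA i = 1 → i = 0 := by decide +kernel
theorem c_bA0 : bA 0 = 1 := by decide +kernel

theorem c_nu : ∀ a < 2, ∀ b < 5, (nuL.getD a []).getD b 0 < 32 ∧
    chkL bsL (gAL.getD a [] ++ (gQL.getD b [] ++ (invW (gAL.getD a []) ++ invW (LQL.getD ((nuL.getD a []).getD b 0) [])))) = true := by decide +kernel

theorem c_cQ : ∀ a < 5, chkL bsL (gQL.getD a [] ++ (wt ++ (invW (gQL.getD a []) ++ invW wt))) = true := by decide +kernel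
theorem c_cA : ∀ a < 2, chkL bsL (gAL.getD a [] ++ (wt ++ (invW (gAL.getD a []) ++ invW wt))) = true := by decide +kernel
theorem c_tt : chkL bsL (wt ++ wt) = true := by decide +kernel

end Cfsg.Agent.Lib.KnownSimple.J3Lab.Ot
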