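import Cfsg.Agent.Lib.KnownSimple.J3Lab.Data

set_option autoImplicit false
set_option maxRecDepth 100000

namespace Cfsg.Agent.Lib.KnownSimple.J3Lab

open Cfsg.Agent.Lib.KnownSimple.Lab Cfsg.Agent.Lib.KnownSimple.J3Lab Dat

theorem hV2_c0 : allI (fun i => varOK D 2 i) 0 3000 = true := by decide +kernel
theorem hV2_u0 : ∀ i, i < 3000 → (fun i => varOK D 2 i) i = true :=
  allI_join allI_start hV2_c0 rfl
theorem hV2_c1 : allI (fun i => varOK D 2 i) 3000 3000 = true := by decide +kernel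
theorem hV2_u1 : ∀ i, i < 6000 → (fun i => varOK D 2 i) i = true :=
  allI_join hV2_u0 hV2_c1 rfl
theorem hV2_c2 : allI (fun i => varOK D 2 i) 6000 3000 = true := by decide +kernel
theorem hV2_u2 : ∀ i, i < 9000 → (fun i => varOK D 2 i) i = true :=
  allI_join hV2_u1 hV2_c2 rfl
theorem hV2_c3 : allI (fun i => varOK D 2 i) 9000 3000 = true := by decide +kernel
theorem hV2_u3 : ∀ i, i < 12000 → (fun i => varOK D 2 i) i = true :=
  allI_join hV2_u2 hV2_c3 rfl
theorem hV2_c4 : allI (fun i => varOK D 2 i) 12000 312 = true := by decide +kernel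
theorem hV2_u4 : ∀ i, i < 12312 → (fun i => varOK D 2 i) i = true :=
  allI_join hV2_u3 hV2_c4 rfl
theorem hV2 : ∀ i, i < 12312 → (fun i => varOK D 2 i) i = true := hV2_u4

end Cfsg.Agent.Lib.KnownSimple.J3Lab
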