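-- Generated: a labelled coset table for `J3`.
import Cfsg.Agent.Lib.KnownSimple.J3Lab.ChecksA
import Cfsg.Agent.Lib.KnownSimple.J3Lab.ChecksV0
import Cfsg.Agent.Lib.KnownSimple.J3Lab.ChecksV1
import Cfsg.Agent.Lib.KnownSimple.J3Lab.ChecksV2
import Cfsg.Agent.Lib.KnownSimple.J3Lab.ChecksV3
import Cfsg.Agent.Lib.KnownSimple.LabTower2
import Cfsg.Agent.Lib.KnownSimple.LabFinalA
import Cfsg.Agent.Lib.KnownSimple.LabPoly
import Cfsg.Agent.Lib.KnownSimple.J3Lab.Letters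
import Cfsg.Agent.Lib.KnownSimple.L216Lab.Facts

set_option autoImplicit false
set_option maxRecDepth 100000

universe u

namespace Cfsg.Agent.Lib.KnownSimple.J3Lab

open Cfsg.Agent.Lib.KnownSimple.Lab Subgroup 

def gwx : List ℕ := [0, 1, 1, 0, 1, 0, 1, 1, 0, 3, 3, 2, 3, 2, 3, 3, 2, 2]
def gwy : List ℕ := [1, 2, 2, 2, 3, 3, 3, 3, 3, 3, 3, 3, 3, 3, 3, 3, 1, 2, 1, 2, 1, 1, 2, 1, 1, 0, 1, 0, 3, 3, 0, 1, 1, 1, 1, 0, 3, 2, 3, 2, 1, 0, 1, 1, 0, 1, 0, 3, 0, 3, 2, 2, 1, 0, 1, 1, 0, 1, 0, 3, 0, 3, 2, 2]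
def gw (a : ℕ) : List ℕ := [gwx, gwy].getD a []



theorem hgw1 : ∀ a < 2, ∀ b ∈ gw a, b < 2 * 2 := by
  intro a ha
  interval_cases a
  · exact (by decide +kernel : ∀ b ∈ gwx, b < 2 * 2)
  · exact (by decide +kernel : ∀ b ∈ gwy, b < 2 * 2)

theorem hgw3 : ∀ a < 2, balanced 2 (gw a) = true := by
  intro a ha
  interval_cases a <;> decide +kernel

theorem hT : ∀ a < D.k, ∀ i < D.n, D.T a i < D.n := by
  intro a ha i hi
  have ha' : a < 4 := ha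
  have hi' : i < 12312 := hi
  show D.T a i < 12312
  interval_cases a
  · exact Nat.le_of_ble_eq_true (hT0 i hi')
  · exact Nat.le_of_ble_eq_true (hT1 i hi')
  · exact Nat.le_of_ble_eq_true (hT2 i hi')
  · exact Nat.le_of_ble_eq_true (hT3 i hi')

theorem hRchk : allI (fun ρ => (Rget ρ).all (fun a => Nat.blt a 4)) 0 65 = true := by decide +kernel

theorem hR : ∀ ρ < D.r, ∀ a ∈ D.R ρ, a < D.k := by
  intro ρ hρ a ha
  have h1 := of_allI hRchk ρ (Nat.zero_le _) hρ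
  exact Nat.le_of_ble_eq_true (List.all_eq_true.mp h1 a ha)

theorem hR4 : ∀ ρ < D.r, ∀ a ∈ D.R ρ, a < 4 := hR

theorem hp : ∀ j, 0 < j → j < D.n → D.par j < j ∧ D.gn j < D.k ∧ D.T (D.gn j) (D.par j) = j := by
  intro j h0 hj
  have h := hTree j hj
  simp only [Bool.or_eq_true, Bool.and_eq_true, Nat.beq_eq, Nat.blt_eq] at h
  rcases h with h | ⟨⟨h1, h2⟩, h3⟩
  · omega
  · exact ⟨h1, h2, h3⟩

theorem hZ : ∀ ρ < D.r, D.Z ρ = true → ∃ a < 2, D.R ρ = [a, a + 2] ∨ D.R ρ = [a + 2, a] ∨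
    D.R ρ = (a + 2) :: gw a := by
  intro ρ hρ h
  have hρ' : ρ < 65 := hρ
  interval_cases ρ
  · exact ⟨0, by norm_num, Or.inr (Or.inl rfl)⟩
  · exact ⟨0, by norm_num, Or.inl rfl⟩
  · exact ⟨1, by norm_num, Or.inr (Or.inl rfl)⟩
  · exact ⟨1, by norm_num, Or.inl rfl⟩
  · exact absurd h (by decide +kernel)
  · exact absurd h (by decide +kernel)
  · exact absurd h (by decide +kernel)
  · exact absurd h (by decide +kernel)
  · exact absurd h (by decide +kernel)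
  · exact absurd h (by decide +kernel)
  · exact absurd h (by decide +kernel)
  · exact absurd h (by decide +kernel)
  · exact absurd h (by decide +kernel)
  · exact absurd h (by decide +kernel)
  · exact absurd h (by decide +kernel)
  · exact absurd h (by decide +kernel)
  · exact absurd h (by decide +kernel)
  · exact absurd h (by decide +kernel)
  · exact absurd h (by decide +kernel)
  · exact absurd h (by decide +kernel)
  · exact absurd h (by decide +kernel)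
  · exact absurd h (by decide +kernel)
  · exact absurd h (by decide +kernel)
  · exact absurd h (by decide +kernel)
  · exact absurd h (by decide +kernel)
  · exact absurd h (by decide +kernel)
  · exact absurd h (by decide +kernel)
  · exact absurd h (by decide +kernel)
  · exact absurd h (by decide +kernel)
  · exact absurd h (by decide +kernel)
  · exact absurd h (by decide +kernel)
  · exact absurd h (by decide +kernel)
  · exact absurd h (by decide +kernel)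
  · exact absurd h (by decide +kernel)
  · exact absurd h (by decide +kernel)
  · exact absurd h (by decide +kernel)
  · exact absurd h (by decide +kernel)
  · exact absurd h (by decide +kernel)
  · exact absurd h (by decide +kernel)
  · exact absurd h (by decide +kernel)
  · exact absurd h (by decide +kernel)
  · exact absurd h (by decide +kernel)
  · exact absurd h (by decide +kernel)
  · exact absurd h (by decide +kernel)
  · exact absurd h (by decide +kernel)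
  · exact absurd h (by decide +kernel)
  · exact absurd h (by decide +kernel)
  · exact absurd h (by decide +kernel)
  · exact absurd h (by decide +kernel)
  · exact absurd h (by decide +kernel)
  · exact absurd h (by decide +kernel)
  · exact absurd h (by decide +kernel)
  · exact absurd h (by decide +kernel)
  · exact absurd h (by decide +kernel)
  · exact absurd h (by decide +kernel)
  · exact absurd h (by decide +kernel)
  · exact absurd h (by decide +kernel)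
  · exact absurd h (by decide +kernel)
  · exact absurd h (by decide +kernel)
  · exact absurd h (by decide +kernel)
  · exact absurd h (by decide +kernel)
  · exact absurd h (by decide +kernel)
  · exact absurd h (by decide +kernel)
  · exact ⟨0, by norm_num, Or.inr (Or.inr rfl)⟩
  · exact ⟨1, by norm_num, Or.inr (Or.inr rfl)⟩

theorem hPkchk : allI (fun t => (Nat.blt (D.P t).1 4 && Nat.blt (D.P t).2 12312) ||
    (Nat.ble 4 (D.P t).1 && Nat.blt ((D.P t).1 - 4) 65 && Nat.beq (D.P t).2 0)) 0 13 = true := by decide +kernel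

theorem hPk : ∀ t < D.m, ((D.P t).1 < D.k ∧ (D.P t).2 < D.n) ∨
    (D.k ≤ (D.P t).1 ∧ (D.P t).1 - D.k < D.r ∧ (D.P t).2 = 0) := by
  intro t ht
  have := of_allI hPkchk t (Nat.zero_le _) ht
  simp only [Bool.or_eq_true, Bool.and_eq_true, Nat.beq_eq, Nat.blt_eq, Nat.ble_eq, and_assoc] at this
  exact this

theorem hPLchk : allI (fun t => vbeq (D.L (D.P t).1 (D.P t).2) (vunit 13 t)) 0 13 = true := by decide +kernel

theorem hPL : ∀ t < D.m, vbeq (D.L (D.P t).1 (D.P t).2) (vunit D.m t) = true := fun t ht =>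
  of_allI hPLchk t (Nat.zero_le _) ht

theorem hvar : ∀ a < D.k, ∀ i < D.n, Dat.varOK D a i = true := by
  intro a ha i hi
  have ha' : a < 4 := ha
  have hi' : i < 12312 := hi
  interval_cases a
  · exact hV0 i hi'
  · exact hV1 i hi'
  · exact hV2 i hi'
  · exact hV3 i hi'

theorem hrvchk : allI (fun ρ => Dat.relOK D ρ) 0 65 = true := by decide +kernel

theorem hrv : ∀ ρ < D.r, Dat.relOK D ρ = true := fun ρ hρ => of_allI hrvchk ρ (Nat.zero_le _) hρ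

def rels : List (ℕ × ℕ) := [(63, 0), (64, 0), (4, 7281), (52, 2084), (52, 9382), (0, 3709), (39, 2066), (7, 46), (52, 3814), (8, 120), (59, 2065), (60, 1703), (0, 108), (21, 1366), (60, 1550), (60, 1), (0, 2382), (53, 159), (52, 2607), (2, 6230), (52, 690), (30, 270), (8, 2076), (37, 454), (54, 602), (13, 956), (52, 3974), (11, 664), (44, 1626), (2, 8249), (52, 1588), (21, 6204), (53, 108), (39, 615), (39, 2732), (7, 956), (10, 4031), (23, 1615), (39, 3639), (39, 5648), (39, 251), (52, 160), (39, 621), (24, 270), (37, 8668), (52, 1678), (14, 8668), (60, 3), (60, 44), (60, 49), (39, 2420), (57, 8640), (60, 592), (62, 457), (25, 354), (60, 3280), (16, 7657), (34, 3123), (7, 2116), (54, 1274), (60, 8668), (32, 3981), (0, 6204), (37, 2727), (44, 2247), (2, 4027), (10, 6260), (56, 8668), (61, 6868), (13, 6260), (52, 7065), (39, 1840), (18, 384), (39, 2090), (60, 5167), (30, 567), (56,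 6260), (2, 6756), (13, 7065), (37, 5962), (58, 4747), (54, 5255), (8, 3385), (47, 6260), (56, 1870), (2, 9065), (2, 9150), (45, 77)]

theorem hrelschk : rels.all (fun x => Dat.relClosed D x.1 x.2) = true := by decide +kernel

theorem hrels : ∀ x ∈ rels, Dat.relClosed D x.1 x.2 = true := fun x hx => List.all_eq_true.mp hrelschk x hx

def gv0 : List ℤ := [0, 0, 0, 0, 0, 0, 0, 0, 0, 1, 2, 0, 0]
def wN0 : List ℤ := [(-3), 3, 50833, 45683, 0, 0, 0, 0, 0, 0, 0, 0, 0, 0, 0, 0, 0, (-6419), 0, 0, 6432, 0, 1, 0, (-833), 0, (-51), (-1), 0, 0, 0, 0, 0, 0, 0, 0, 0, 0, 0, 0, 0, 0, 0, 0, 0, 0, 0, 0, 0, 0, 0, 0, 0, 0, 0, 0, 0, (-150), 0, 0, 0, (-332), 0, 0, 0, 0, 0, 0, 0, 0, (-237), 0, 0, 0, 0, 0, 0, 0, 0, 0, 0, 0, 0, 0, 0, 0, 0, 3]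
def gvs : List (List ℤ) := [gv0]
def bL : List (List ℤ) := [[0], [0], [0], [0], [(-3)], [(-1)], [(-33)], [9], [0], [5], [(-2)], [675], [(-468)]]
def WL : List (List ℤ) := [[(-1), 0, (-2), (-3), 0, 0, 0, 0, 0, 0, 0, 0, 0, 0, 0, 0, 0, 1, 0, 0, 0, 0, 0, 0, 0, 0, 0, 0, 0, 0, 0, 0, 0, 0, 0, 0, 0, 0, 0, 0, 0, 0, 0, 0, 0, 0, 0, 0, 0, 0, 0, 0, 0, 0, 0, 0, 0, 0, 0, 0, 0, 0, 0, 0, 0, 0, 0, 0, 0, 0, 0, 0, 0, 0, 0, 0, 0, 0, 0, 0, 0, 0, 0, 0, 0, 0, 0, 0], [(-2), 0, (-6), (-9), 0, 0, 0, 0, 0, 0, 0, 0, 0, 0, 0, 0, 0, 3, 0, 0, 0, 0, 0, 0, 0, 0, 0, 0, 0, 0, 0, 0, 0, 0, 0, 0, 0, 0, 0, 0, 0, 0, 0, 0, 0, 0, 0, 0, 0, 0, 0, 0, 0, 0, 0, 0, 0, 0, 0, 0, 0, 0, 0, 0, 0, 0, 0, 0, 0, 0, 0, 0, 0, 0, 0, 0, 0, 0, 0, 0, 0, 0, 0, 0, 0, 0, 0, 0], [0, 0, (-1), 0, 0, 0, 0, 0, 0, 0, 0, 0, 0, 0, 0, 0, 0, 0, 0, 0, 0, 0, 0, 0, 0, 0, 0, 0, 0, 0, 0, 0, 0, 0, 0, 0, 0, 0, 0, 0, 0, 0, 0, 0, 0, 0, 0, 0, 0, 0, 0, 0, 0, 0, 0, 0,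 0, 0, 0, 0, 0, 0, 0, 0, 0, 0, 0, 0, 0, 0, 0, 0, 0, 0, 0, 0, 0, 0, 0, 0, 0, 0, 0, 0, 0, 0, 0, 0], [(-1), 0, (-2), (-2), 0, 0, 0, 0, 0, 0, 0, 0, 0, 0, 0, 0, 0, 1, 0, 0, 0, 0, 0, 0, 0, 0, 0, 0, 0, 0, 0, 0, 0, 0, 0, 0, 0, 0, 0, 0, 0, 0, 0, 0, 0, 0, 0, 0, 0, 0, 0, 0, 0, 0, 0, 0, 0, 0, 0, 0, 0, 0, 0, 0, 0, 0, 0, 0, 0, 0, 0, 0, 0, 0, 0, 0, 0, 0, 0, 0, 0, 0, 0, 0, 0, 0, 0, 0], [(-5), 3, 50537, 45460, 0, 0, 0, 0, 0, 0, 0, 0, 0, 0, 0, 0, 0, (-6399), 0, 0, 6389, 0, 1, 0, (-828), 0, (-53), 0, 0, 0, 0, 0, 0, 0, 0, 0, 0, 0, 0, 0, 0, 0, 0, 0, 0, 0, 0, 0, 0, 0, 0, 0, 0, 0, 0, 0, 0, (-150), 0, 0, 0, (-331), 0, 0, 0, 0, 0, 0, 0, 0, (-235), 0, 0, 0, 0, 0, 0, 0, 0, 0, 0, 0, 0, 0, 0, 0, 0, 3], [(-2), 0, (-32), (-23), 0, 0, 0, 0, 0, 0, 0, 0, 0, 0, 0, 0, 0, 4, 0, 0, (-5), 0, 0, 0, 1, 0, 0, 0, 0, 0, 0, 0, 0, 0, 0, 0, 0, 0, 0, 0, 0, 0, 0, 0, 0, 0, 0, 0, 0, 0, 0, 0, 0, 0, 0, 0, 0, 0, 0, 0, 0, 0, 0, 0, 0, 0,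 0, 0, 0, 0, 0, 0, 0, 0, 0, 0, 0, 0, 0, 0, 0, 0, 0, 0, 0, 0, 0, 0], [(-33), 21, 353172, 317805, 0, 0, 0, 0, 0, 0, 0, 0, 0, 0, 0, 0, 0, (-44730), 0, 0, 44640, 0, 7, 0, (-5785), 0, (-373), 0, 0, 0, 0, 0, 0, 0, 0, 0, 0, 0, 0, 0, 0, 0, 0, 0, 0, 0, 0, 0, 0, 0, 0, 0, 0, 0, 0, 0, 0, (-1049), 0, 0, 0, (-2316), 0, 0, 0, 0, 0, 0, 0, 0, (-1645), 0, 0, 0, 0, 0, 0, 0, 0, 0, 0, 0, 0, 0, 0, 0, 0, 21], [13, 0, 461, 361, 0, 0, 0, 0, 0, 0, 0, 0, 0, 0, 0, 0, 0, (-67), 0, 0, 60, 0, 0, 0, (-9), 0, 2, 0, 0, 0, 0, 0, 0, 0, 0, 0, 0, 0, 0, 0, 0, 0, 0, 0, 0, 0, 0, 0, 0, 0, 0, 0, 0, 0, 0, 0, 0, 0, 0, 0, 0, (-1), 0, 0, 0, 0, 0, 0, 0, 0, 0, 0, 0, 0, 0, 0, 0, 0, 0, 0, 0, 0, 0, 0, 0, 0, 0, 0], [(-1), 0, (-10), (-9), 0, 0, 0, 0, 0, 0, 0, 0, 0, 0, 0, 0, 0, 2, 0, 0, (-1), 0, 0, 0, 0, 0, 0, 0, 0, 0, 0, 0, 0, 0, 0, 0, 0, 0, 0, 0, 0, 0, 0, 0, 0, 0, 0, 0, 0, 0, 0, 0, 0, 0, 0, 0, 0, 0, 0, 0, 0, 0, 0, 0, 0, 0, 0, 0, 0, 0,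 0, 0, 0, 0, 0, 0, 0, 0, 0, 0, 0, 0, 0, 0, 0, 0, 0, 0], [10, 6, 101664, 91412, 0, 0, 0, 0, 0, 0, 0, 0, 0, 0, 0, 0, 0, (-12892), 0, 0, 12852, 0, 2, 0, (-1668), 0, (-104), 0, 0, 0, 0, 0, 0, 0, 0, 0, 0, 0, 0, 0, 0, 0, 0, 0, 0, 0, 0, 0, 0, 0, 0, 0, 0, 0, 0, 0, 0, (-300), 0, 0, 0, (-664), 0, 0, 0, 0, 0, 0, 0, 0, (-470), 0, 0, 0, 0, 0, 0, 0, 0, 0, 0, 0, 0, 0, 0, 0, 0, 6], [(-5), (-3), (-50832), (-45706), 0, 0, 0, 0, 0, 0, 0, 0, 0, 0, 0, 0, 0, 6446, 0, 0, (-6426), 0, (-1), 0, 834, 0, 52, 0, 0, 0, 0, 0, 0, 0, 0, 0, 0, 0, 0, 0, 0, 0, 0, 0, 0, 0, 0, 0, 0, 0, 0, 0, 0, 0, 0, 0, 0, 150, 0, 0, 0, 332, 0, 0, 0, 0, 0, 0, 0, 0, 235, 0, 0, 0, 0, 0, 0, 0, 0, 0, 0, 0, 0, 0, 0, 0, 0, (-3)], [674, (-677), (-11417896), (-10270283), 0, 0, 0, 0, 0, 0, 0, 0, 0, 0, 0, 0, 0, 1445660, 0, 0, (-1443575), 0, (-226), 0, 187104, 0, 11879, 0, 0, 0, 0, 0, 0, 0, 0, 0, 0, 0, 0, 0, 0, 0, 0, 0, 0, 0, 0, 0, 0, 0, 0, 0, 0,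 0, 0, 0, 0, 33842, 0, 0, 0, 74779, 0, 0, 0, 0, 0, 0, 0, 0, 53110, 0, 0, 0, 0, 0, 0, 0, 0, 0, 0, 0, 0, 0, 0, 0, 0, (-678)], [(-466), 473, 7981453, 7178660, 0, 0, 0, 0, 0, 0, 0, 0, 0, 0, 0, 0, 0, (-1010365), 0, 0, 1009171, 0, 158, 0, (-130789), 0, (-8277), 0, 0, 0, 0, 0, 0, 0, 0, 0, 0, 0, 0, 0, 0, 0, 0, 0, 0, 0, 0, 0, 0, 0, 0, 0, 0, 0, 0, 0, 0, (-23650), 0, 0, 0, (-52267), 0, 0, 0, 0, 0, 0, 0, 0, (-37130), 0, 0, 0, 0, 0, 0, 0, 0, 0, 0, 0, 0, 0, 0, 0, 0, 473]]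

theorem hfinchk : allI (fun u => vbeq (vunit 13 u) (vadd (lin (bL.getD u []) gvs)
    (lin (WL.getD u []) (rels.map fun x => Dat.relRow D x.1 x.2)))) 0 13 = true := by decide +kernel

theorem hfin : ∀ u < D.m, vbeq (vunit D.m u) (vadd (lin (bL.getD u []) gvs)
    (lin (WL.getD u []) (rels.map fun x => Dat.relRow D x.1 x.2))) = true := fun u hu =>
  of_allI hfinchk u (Nat.zero_le _) hu

theorem hN0 : vbeq (vscale ((3 : ℕ) : ℤ) gv0) (lin wN0 (rels.map fun x => Dat.relRow D x.1 x.2)) = true := by decide +kernel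

def hw (b : ℕ) : List ℕ := hwL.getD b []

def qe (u : ℕ) : List ℕ := qeL.getD u []

theorem hwl : ∀ b < 2 * 2, ∀ a ∈ hw b, a < 2 * 2 := by decide +kernel

theorem hwi : ∀ b < 2, hw (b + 2) = invW 2 (hw b) := by decide +kernel

theorem hqe : ∀ u < D.m, (D.P u).1 < D.k → ∀ b ∈ qe u, b < 2 * 2 := by
  intro u hu _
  exact (by decide +kernel : ∀ u < 13, ∀ b ∈ qe u, b < 2 * 2) u hu

theorem hparW : parH 2 hw D.T D.par D.gn (D.P 0).1 (D.P 0).2 (qe 0) = pw0 ∧ parH 2 hw D.T D.par D.gn (D.P 3).1 (D.P 3).2 (qe 3) = pw3 ∧ parH 2 hw D.T D.par D.gn (D.P 5).1 (D.P 5).2 (qe 5) = pw5 ∧ parH 2 hw D.T D.par D.gn (D.P 7).1 (D.P 7).2 (qe 7) = pw7 ∧ parH 2 hw D.T D.par D.gn (D.P 8).1 (D.P 8).2 (qe 8) = pw8 ∧ parH 2 hw D.T D.par D.gn (D.P 9).1 (D.P 9).2 (qe 9) = pw9 ∧ parH 2 hw D.T D.par D.gn (D.P 10).1 (D.P 10).2 (qe 10) = pw10 ∧ parH 2 hw D.T D.par D.gn (D.P 11).1 (D.P 11).2 (qe 11) = pw11 ∧ parH 2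 hw D.T D.par D.gn (D.P 12).1 (D.P 12).2 (qe 12) = pw12 := by decide +kernel

theorem hPnon : ¬ (D.P 1).1 < D.k ∧ ¬ (D.P 2).1 < D.k ∧ ¬ (D.P 4).1 < D.k ∧ ¬ (D.P 6).1 < D.k := by decide +kernel


theorem c_rel : allI (fun ρ => chk (Rget ρ)) 0 65 = true := by decide +kernel
theorem c_p0 : chk pw0 = true := by decide +kernel
theorem c_p3 : chk pw3 = true := by decide +kernel
theorem c_p5 : chk pw5 = true := by decide +kernel
theorem c_p7 : chk pw7 = true := by decide +kernel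
theorem c_p8 : chk pw8 = true := by decide +kernel
theorem c_p9 : chk pw9 = true := by decide +kernel
theorem c_p10 : chk pw10 = true := by decide +kernel
theorem c_p11 : chk pw11 = true := by decide +kernel
theorem c_p12 : chk pw12 = true := by decide +kernel
theorem c_HE : ∀ w ∈ L216ALab.wordsL, chk (subW hw w) = true := by decide +kernel
theorem c_HA : ∀ w ∈ L216ALab.wordsL, chk (subW hw w) = true := by decide +kernel
theorem c_HB : ∀ w ∈ L216BLab.wordsL, chk (subW hw w) = true := by decide +kernel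

section main

variable {G : Type u} [Group G] [Finite G] (g : ℕ → G)

/-- The order of the group is at most the expected one. -/
theorem card_le (hgi : ∀ a < 2, g (a + 2) = (g a)⁻¹) (hgen : closure (g '' {a | a < 2 * 2}) = ⊤)
    (heq : ∀ w : List ℕ, (∀ a ∈ w, a < 4) → chk w = true → wval g w = 1) :
    Nat.card G ≤ 50232960 := by
  have hrelG : ∀ ρ < D.r, wval g (D.R ρ) = 1 := by
    intro ρ hρ
    exact heq _ (hR4 ρ hρ) (of_allI c_rel ρ (Nat.zero_le _) hρ)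
  have hparG : ∀ u < D.m, (D.P u).1 < D.k →
      wval g (parH 2 hw D.T D.par D.gn (D.P u).1 (D.P u).2 (qe u)) = 1 := by
    intro u hu h
    have hu' : u < 13 := hu
    interval_cases u
    · rw [hparW.1]
      exact heq _ (by decide +kernel) c_p0
    · exact absurd h hPnon.1
    · exact absurd h hPnon.2.1
    · rw [hparW.2.1]
      exact heq _ (by decide +kernel) c_p3
    · exact absurd h hPnon.2.2.1
    · rw [hparW.2.2.1]
      exact heq _ (by decide +kernel) c_p5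
    · exact absurd h hPnon.2.2.2
    · rw [hparW.2.2.2.1]
      exact heq _ (by decide +kernel) c_p7
    · rw [hparW.2.2.2.2.1]
      exact heq _ (by decide +kernel) c_p8
    · rw [hparW.2.2.2.2.2.1]
      exact heq _ (by decide +kernel) c_p9
    · rw [hparW.2.2.2.2.2.2.1]
      exact heq _ (by decide +kernel) c_p10
    · rw [hparW.2.2.2.2.2.2.2.1]
      exact heq _ (by decide +kernel) c_p11
    · rw [hparW.2.2.2.2.2.2.2.2]
      exact heq _ (by decide +kernel) c_p12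
  have hsubl : ∀ w : List ℕ, (∀ b ∈ w, b < 2 * 2) → ∀ a ∈ subW hw w, a < 2 * 2 := subW_letters hwl
  have hsub1 : ∀ w : List ℕ, (∀ b ∈ w, b < 2 * 2) → chk (subW hw w) = true → wval g (subW hw w) = 1 :=
    fun w h1 h2 => heq _ (hsubl w h1) h2
  obtain ⟨hG1, hG2, hG3⟩ := L216ALab.words_of (fun w => wval g (subW hw w) = 1)
    (fun w h => hsub1 w (by revert w; decide +kernel) (c_HE w h))
  have h1 := card_le_T D 2 rfl (by decide +kernel) g hgi hgen hw 2 hwl hwi L216ALab.D rfl L216ALab.pcL L216ALab.hpc L216ALab.hlet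
    L216ALab.hT L216ALab.hR (by decide +kernel) L216ALab.hp (fun u => L216ALab.peL.getD u []) L216ALab.hPn L216ALab.hvar hG1 hG2 hG3
    hT hR hp hrelG hPk hvar qe hqe hparG
  rw [L216ALab.hprod] at h1
  exact h1.trans (by decide +kernel)

/-- The kernels of the stem extensions. -/
theorem upper (hgi : ∀ a < 2, g (a + 2) = (g a)⁻¹) (hgen : closure (g '' {a | a < 2 * 2}) = ⊤)
    (heq : ∀ w : List ℕ, (∀ a ∈ w, a < 4) → chk w = true → wval g w = 1)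
    (hcardG : Nat.card G = 50232960) (Γ : Type u) [Group Γ] [Finite Γ] (σ : Γ →* G) (hσ : Cfsg.IsStemExtension σ) :
    ∃ f : List ℤ → σ.ker,
      (∀ x : σ.ker, x ∈ closure (f '' {v | v ∈ gvs})) ∧
      (∀ (v : List ℤ) (N : ℤ) (w : List ℤ),
        vbeq (vscale N v) (lin w (rels.map fun x => Dat.relRow D x.1 x.2)) = true → f v ^ N = 1) := by
  have hcard : Nat.card G = D.n * (L216ALab.D.n * (L216ALab.pcL.map PC.o).prod) := by
    rw [L216ALab.hprod, hcardG]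
    decide +kernel
  have hrelG : ∀ ρ < D.r, wval g (D.R ρ) = 1 := by
    intro ρ hρ
    exact heq _ (hR4 ρ hρ) (of_allI c_rel ρ (Nat.zero_le _) hρ)
  have hparG : ∀ u < D.m, (D.P u).1 < D.k →
      wval g (parH 2 hw D.T D.par D.gn (D.P u).1 (D.P u).2 (qe u)) = 1 := by
    intro u hu h
    have hu' : u < 13 := hu
    interval_cases u
    · rw [hparW.1]
      exact heq _ (by decide +kernel) c_p0
    · exact absurd h hPnon.1
    · exact absurd h hPnon.2.1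
    · rw [hparW.2.1]
      exact heq _ (by decide +kernel) c_p3
    · exact absurd h hPnon.2.2.1
    · rw [hparW.2.2.1]
      exact heq _ (by decide +kernel) c_p5
    · exact absurd h hPnon.2.2.2
    · rw [hparW.2.2.2.1]
      exact heq _ (by decide +kernel) c_p7
    · rw [hparW.2.2.2.2.1]
      exact heq _ (by decide +kernel) c_p8
    · rw [hparW.2.2.2.2.2.1]
      exact heq _ (by decide +kernel) c_p9
    · rw [hparW.2.2.2.2.2.2.1]
      exact heq _ (by decide +kernel) c_p10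
    · rw [hparW.2.2.2.2.2.2.2.1]
      exact heq _ (by decide +kernel) c_p11
    · rw [hparW.2.2.2.2.2.2.2.2]
      exact heq _ (by decide +kernel) c_p12
  have hsubl : ∀ w : List ℕ, (∀ b ∈ w, b < 2 * 2) → ∀ a ∈ subW hw w, a < 2 * 2 := subW_letters hwl
  have hsub1 : ∀ w : List ℕ, (∀ b ∈ w, b < 2 * 2) → chk (subW hw w) = true → wval g (subW hw w) = 1 :=
    fun w h1 h2 => heq _ (hsubl w h1) h2
  obtain ⟨hG1, hG2, hG3⟩ := L216ALab.words_of (fun w => wval g (subW hw w) = 1)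
    (fun w h => hsub1 w (by revert w; decide +kernel) (c_HE w h))
  have hgw2 : ∀ a < 2, wval g (gw a) = g a := by
    intro a ha
    interval_cases a
    · have h := hrelG 63 (by decide +kernel)
      rw [show D.R 63 = 2 :: gwx from rfl, wval_cons, show g 2 = (g 0)⁻¹ from hgi 0 (by norm_num)] at h
      exact (inv_mul_eq_one.mp h).symm
    · have h := hrelG 64 (by decide +kernel)
      rw [show D.R 64 = 3 :: gwy from rfl, wval_cons, show g 3 = (g 1)⁻¹ from hgi 1 (by norm_num)] at h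
      exact (inv_mul_eq_one.mp h).symm
  have hcX := card_T D 2 rfl (by decide +kernel) g hgi hgen hw 2 hwl hwi L216ALab.D rfl L216ALab.pcL L216ALab.hpc L216ALab.hlet
    L216ALab.hT L216ALab.hR (by decide +kernel) L216ALab.hp (fun u => L216ALab.peL.getD u []) L216ALab.hPn L216ALab.hvar hcard hG1 hG2 hG3
    hT hR hp hrelG hPk hvar qe hqe hparG
  have hcX' : Nat.card (closure ((fun b => wval g (hw b)) '' {b | b < 2 * 2})) = 4080 := by
    rw [hcX, L216ALab.hprod]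
    decide +kernel
  have hi : ∀ b < 2, (fun b => wval g (hw b)) (b + 2) = ((fun b => wval g (hw b)) b)⁻¹ := by
    intro b hb
    show wval g (hw (b + 2)) = (wval g (hw b))⁻¹
    rw [hwi b hb]
    exact wval_invW g 2 hgi _ (hwl b (by omega))
  have hletter : ∀ w : List ℕ, (∀ b ∈ w, b < 2 * 2) → chk (subW hw w) = true →
      wval (subLetters (fun b => wval g (hw b)) (2 * 2)) w = 1 := by
    intro w h1 h2
    apply Subtype.ext
    rw [subLetters_val _ _ w h1, Subgroup.coe_one, ← wval_subW]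
    exact hsub1 w h1 h2
  have hfacts := L216Lab.facts (subLetters (fun b => wval g (hw b)) (2 * 2))
    (subLetters_inv _ 2 hi) (subLetters_closure _ (2 * 2))
    (fun w h => hletter w (by revert w; decide +kernel) (c_HA w h)) (fun w h => hletter w (by revert w; decide +kernel) (c_HB w h)) hcX'
  have hcard' : Nat.card G = D.n * Nat.card (closure ((fun b => wval g (hw b)) '' {b | b < 2 * 2})) := by
    rw [hcX]
    exact hcard
  exact upper_T D 2 rfl (by decide +kernel) g hgi hgen hw 2 hwl hcard' gw hgw1 hgw2 hgw3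
    hT hR hp hrelG hZ hPk hPL hvar hrv rels hrels gvs (fun u => bL.getD u []) (fun u => WL.getD u [])
    hfin hfacts.1 hfacts.2 qe hqe hparG Γ σ hσ

end main

end Cfsg.Agent.Lib.KnownSimple.J3Lab
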