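import Cfsg.Agent.Lib.KnownSimple.J3Lab.Rep
import Cfsg.Agent.Lib.KnownSimple.J3Lab.IsoD

/-! The orbits of the triple cover of the third Janko group on lines. -/

set_option autoImplicit false
set_option maxRecDepth 100000

namespace Cfsg.Agent.Lib.KnownSimple.J3Lab

open Cfsg.Agent.Lib.KnownSimple.Lab Cfsg.Agent.Lib.KnownSimple.LabField
open Cfsg.Agent.Lib.KnownSimple.LabVec Cfsg.Agent.Lib.KnownSimple.LabChev Cfsg.Agent.Lib.KnownSimple.LabPack Cfsg.Spor
open Cfsg.Agent.Lib.KnownSimple.LabLevels Cfsg.Agent.Lib.KnownSimple.LabJ3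
open scoped Matrix

namespace IsoL

open Rp

section main

variable {F : Type*} [Field F] {ω : F} {S : R4 F ω}
variable {γ : ℕ → ↥(threeJ3 F ω)} (hX : ∀ a < 2, chM (γ a) = toMS S.R.φ add4 9 (XA a))
  (hI : ∀ a < 2, γ (a + 2) = (γ a)⁻¹)

include hX in
/-- A letter on packed codes. -/
theorem letter_unp (a : ℕ) (ha : a < 2) (P : ℕ) :
    chM (γ a) *ᵥ unp S.R.φ 2 9 P = unp S.R.φ 2 9 (mvP 2 4 (cols a) P 0) := by
  obtain ⟨_, _, _, c4, c5⟩ := c_XA a ha
  have hx : ∀ x < 2 ^ 2, ∀ y < 2 ^ 2, S.R.φ (x ^^^ y) = S.R.φ x + S.R.φ y := by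
    intro x hx y hy
    rw [← c_xor x hx y hy, S.R.hadd]
  have hcol : ∀ j : Fin 9, ∀ c < 2 ^ 2, ∀ i : Fin 9,
      unp S.R.φ 2 9 (nthL ((cols a).getD j []) c) i = S.R.φ c * chM (γ a) i j := by
    intro j c hc i
    rw [hX a ha]
    simp only [unp, toMS, Matrix.of_apply]
    rw [c5 j j.2 c hc i i.2, S.R.hmul]
  exact mulVec_unp hx S.R.h0 _ _ c4 hcol P

include hX in
/-- The tree of the isotropic vectors gives words. -/
theorem iso_reach (hIs : ∀ i, i < 262144 → hIsF i = true) :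
    ∀ n c, c < 262144 → isoC c = true → isoE c / 524288 < n →
      ∃ w : List ℕ, chM (wval γ w) *ᵥ unp S.R.φ 2 9 5 = unp S.R.φ 2 9 c := by
  intro n
  induction n with
  | zero =>
    intro c _ _ h
    omega
  | succ n ih =>
    intro c hc hi hd
    have h := hIs c hc
    simp only [hIsF, hi, Bool.not_true, Bool.false_or, Bool.or_eq_true] at h
    rcases h with h | h
    · have e : c = 5 := Nat.eq_of_beq_eq_true h
      subst e
      exact ⟨[], by simp⟩
    · simp only [hIsG, Bool.and_eq_true] at h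
      obtain ⟨⟨h1, h2⟩, h3⟩ := h
      have hp : isoE c / 2 % 262144 < 262144 := Nat.mod_lt _ (by norm_num)
      have h2' := Nat.le_of_ble_eq_true h2
      obtain ⟨w, hw⟩ := ih _ hp h1 (by omega)
      refine ⟨(isoE c % 2) :: w, ?_⟩
      rw [wval_cons, map_mul, ← Matrix.mulVec_mulVec, hw,
        letter_unp hX _ (Nat.mod_lt _ (by norm_num)), Nat.eq_of_beq_eq_true h3]

/-- The number of nonzero digits and cubes. -/
theorem sum_cube (hω : ω ^ 2 + ω + 1 = 0) (S : R4 F ω) : ∀ (d c : ℕ),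
    ∑ i : Fin d, (unp S.R.φ 2 d c i) ^ 3 = ((wt d c : ℕ) : F) := by
  intro d
  induction d with
  | zero => intro c; simp [wt]
  | succ d ih =>
    intro c
    rw [Fin.sum_univ_succ]
    have e1 : ∀ j : Fin d, unp S.R.φ 2 (d + 1) c j.succ = unp S.R.φ 2 d (c / 4) j := by
      intro j
      simp only [unp, Fin.val_succ]
      rw [dig_succ, Nat.shiftRight_eq_div_pow]
    simp only [e1]
    rw [ih (c / 4)]
    have e2 : unp S.R.φ 2 (d + 1) c 0 = S.R.φ (c % 4) := by
      simp only [unp, Fin.val_zero]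
      rw [dig_zero_idx]
      norm_num
    rw [e2, wt, Nat.cast_add]
    congr 1
    have h3 : ω ^ 3 = 1 := omega_cube hω
    have hc : c % 4 < 4 := Nat.mod_lt _ (by norm_num)
    generalize c % 4 = k at hc ⊢
    interval_cases k
    · simp [S.R.h0]
    · simp [S.R.h1]
    · simp [S.h2, h3]
    · simp only [S.h3]
      have : (ω ^ 2) ^ 3 = (ω ^ 3) ^ 2 := by ring
      rw [this, h3]
      simp

/-- The codes are onto. -/
theorem exists_code [Fintype F] (hF : Fintype.card F = 4) (S : R4 F ω) (u : Fin 9 → F) :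
    ∃ c < 262144, u = unp S.R.φ 2 9 c := by
  have hs : ∀ x : F, ∃ k : ℕ, k < 4 ∧ S.R.φ k = x := by
    have hb : Function.Bijective (fun k : Fin 4 => S.R.φ k) := by
      rw [Fintype.bijective_iff_injective_and_card]
      refine ⟨?_, by simp [hF]⟩
      intro a b e
      exact Fin.ext (S.R.hinj _ _ a.2 b.2 e)
    intro x
    obtain ⟨k, hk⟩ := hb.2 x
    exact ⟨k, k.2, hk⟩
  have hd : ∀ i : ℕ, ∃ k : ℕ, k < 4 ∧ ∀ h : i < 9, S.R.φ k = u ⟨i, h⟩ := by
    intro i
    by_cases h : i < 9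
    · obtain ⟨k, h1, h2⟩ := hs (u ⟨i, h⟩)
      exact ⟨k, h1, fun _ => h2⟩
    · exact ⟨0, by norm_num, fun h' => absurd h' h⟩
  choose d hd1 hd2 using hd
  obtain ⟨c, hc⟩ : ∃ c, c = d 0 + 4 * d 1 + 16 * d 2 + 64 * d 3 + 256 * d 4 + 1024 * d 5 + 4096 * d 6 +
      16384 * d 7 + 65536 * d 8 := ⟨_, rfl⟩
  have b0 := hd1 0
  have b1 := hd1 1
  have b2 := hd1 2
  have b3 := hd1 3
  have b4 := hd1 4
  have b5 := hd1 5
  have b6 := hd1 6
  have b7 := hd1 7
  have b8 := hd1 8
  refine ⟨c, by omega, ?_⟩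
  have key : ∀ i : ℕ, i < 9 → c >>> (2 * i) % 2 ^ 2 = d i := by
    intro i hi
    rw [Nat.shiftRight_eq_div_pow]
    interval_cases i <;> norm_num <;> omega
  ext i
  simp only [unp, dig]
  rw [key i i.2]
  exact (hd2 i i.2).symm

/-- The transport to the coordinates. -/
theorem chM_mulVec (x : ↥(threeJ3 F ω)) (v : F9 → F) :
    (((x.1 : GL F9 F) : Matrix F9 F9 F) *ᵥ v) ∘ e9 = chM x *ᵥ (v ∘ e9) := by
  ext i
  simp only [Function.comp_apply, Matrix.mulVec, dotProduct, chM_apply]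
  rw [← Equiv.sum_comp e9]

include hX in
/-- The words to the isotropic vectors. -/
theorem iso_word [Fintype F] (hF : Fintype.card F = 4) (hω : ω ^ 2 + ω + 1 = 0)
    (hIs : ∀ i, i < 262144 → hIsF i = true) (v : F9 → F) (hv : v ≠ 0)
    (hi : ∑ z, (v z) ^ 3 = 0) :
    ∃ w : List ℕ, chM (wval γ w) *ᵥ unp S.R.φ 2 9 5 = v ∘ e9 := by
  obtain ⟨c, hc, e⟩ := exists_code hF S (v ∘ e9)
  have h1 : ((wt 9 c : ℕ) : F) = 0 := by
    rw [← sum_cube hω S 9 c, ← e]
    simp only [Function.comp_apply]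
    rw [Equiv.sum_comp e9 (fun z => (v z) ^ 3)]
    exact hi
  have h2 : wt 9 c % 2 = 0 := by
    have h3 : (2 : F) = 0 := char2 (S := S)
    have h4 := Nat.div_add_mod (wt 9 c) 2
    have h5 : ((wt 9 c % 2 : ℕ) : F) = 0 := by
      have h6 : ((2 * (wt 9 c / 2) + wt 9 c % 2 : ℕ) : F) = 0 := by rw [h4]; exact h1
      rw [Nat.cast_add, Nat.cast_mul] at h6
      rw [Nat.cast_ofNat, h3, zero_mul, zero_add] at h6
      exact h6
    rcases Nat.mod_two_eq_zero_or_one (wt 9 c) with h | h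
    · exact h
    · rw [h] at h5
      simp at h5
  have h3 : c ≠ 0 := by
    rintro rfl
    apply hv
    ext z
    have h4 := congrFun e (e9.symm z)
    simp only [Function.comp_apply, Equiv.apply_symm_apply, unp, dig] at h4
    rw [h4]
    simp [S.R.h0]
  have h4 : isoC c = true := by
    simp only [isoC, Bool.and_eq_true]
    refine ⟨?_, ?_⟩
    · rw [h2]
      rfl
    · exact Nat.ble_eq_true_of_le (Nat.pos_of_ne_zero h3)
  obtain ⟨w, hw⟩ := iso_reach hX hIs _ c hc h4 (Nat.lt_succ_self _)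
  exact ⟨w, by rw [hw, ← e]⟩

include hX in
/-- The isotropic vectors are one orbit. -/
theorem iso_orbit [Fintype F] (hF : Fintype.card F = 4) (hω : ω ^ 2 + ω + 1 = 0)
    (hIs : ∀ i, i < 262144 → hIsF i = true) (v w : F9 → F) (hv : v ≠ 0) (hw : w ≠ 0)
    (hi : ∑ z, (v z) ^ 3 = 0) (hj : ∑ z, (w z) ^ 3 = 0) :
    ∃ g ∈ threeJ3 F ω, ∃ c : F, c ≠ 0 ∧ (g : Matrix F9 F9 F) *ᵥ v = c • w := by
  obtain ⟨w1, h1⟩ := iso_word hX hF hω hIs v hv hi
  obtain ⟨w2, h2⟩ := iso_word hX hF hω hIs w hw hj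
  set x := wval γ w2 * (wval γ w1)⁻¹ with hx
  refine ⟨x.1, x.2, 1, one_ne_zero, ?_⟩
  rw [one_smul]
  have h3 : chM x *ᵥ (v ∘ e9) = w ∘ e9 := by
    rw [← h1, ← h2, Matrix.mulVec_mulVec, ← map_mul, hx, inv_mul_cancel_right]
  rw [← chM_mulVec] at h3
  exact e9.surjective.injective_comp_right h3

include hX hI in
/-- The points are distinct vectors. -/
theorem hP_inj : ∀ i < 69768, ∀ j < 69768, toV S.R.φ 9 (pt i) = toV S.R.φ 9 (pt j) → i = j := by
  have hmono : ∀ i j, i < j → j < 69768 → ptc i < ptc j := by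
    intro i j hij
    induction j, hij using Nat.le_induction with
    | base =>
      intro h
      exact Nat.le_of_ble_eq_true (c_incr i (by omega))
    | succ j hj ih =>
      intro h
      exact lt_trans (ih (by omega)) (Nat.le_of_ble_eq_true (c_incr j (by omega)))
  have hlen : ∀ i, (pt i).length = 9 := by
    intro i
    simp [pt, dgC]
  intro i hi j hj e
  have h3 : pt i = pt j := by
    apply List.ext_getElem (by rw [hlen, hlen])
    intro k hk1 hk2
    have hk : k < 9 := by rwa [hlen] at hk1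
    have h4 := congrFun e ⟨k, hk⟩
    simp only [toV] at h4
    rw [List.getD_eq_getElem _ _ hk1, List.getD_eq_getElem _ _ hk2] at h4
    exact S.R.hinj _ _ ((c_enc i hi).2 _ (List.getElem_mem hk1)) ((c_enc j hj).2 _ (List.getElem_mem hk2)) h4
  have h5 : ptc i = ptc j := by
    rw [← (c_enc i hi).1, ← (c_enc j hj).1, h3]
  rcases lt_trichotomy i j with h | h | h
  · exact absurd h5 (hmono i j h hj).ne
  · exact h
  · exact absurd h5.symm (hmono j i h hi).ne

theorem base_vec (S : R4 F ω) : toV S.R.φ 9 (pt 0) = Pi.single 0 1 := by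
  have h := (c_bs 0 (by norm_num)).2
  have e : bsL.getD 0 0 = 0 := rfl
  rw [e] at h
  rw [h]
  exact toV_unitC S 0

include hX hI in
/-- Every image of the base is a point. -/
theorem orb_word (x : ↥(threeJ3 F ω)) : ∃ j < 69768, chM x *ᵥ toV S.R.φ 9 (pt 0) = toV S.R.φ 9 (pt j) := by
  have hx : x ∈ Subgroup.closure (γ '' {a | a < 2 * 2}) := by
    rw [hclosure hX hI]
    trivial
  obtain ⟨w, hw, rfl⟩ := exists_word γ 2 hI hx
  obtain ⟨h1, h2⟩ := word_pt hX hI w hw 0 (by norm_num)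
  exact ⟨_, h1, h2⟩

include hX hI in
/-- Every point is an image of the base. -/
theorem word_orb (i : ℕ) (hi : i < 69768) : ∃ x : ↥(threeJ3 F ω), chM x *ᵥ toV S.R.φ 9 (pt 0) = toV S.R.φ 9 (pt i) := by
  have h := hTr i hi
  simp only [hTrf, Bool.and_eq_true, List.all_eq_true] at h
  have h3 := (word_pt hX hI (treeW 40 i) (fun a ha => Nat.le_of_ble_eq_true (h.2 a ha)) 0 (by norm_num)).2
  rw [Nat.eq_of_beq_eq_true h.1] at h3
  exact ⟨_, h3⟩

include hX hI in
/-- The nonzero scalars lie in the group. -/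
theorem exists_scal [Fintype F] (hF : Fintype.card F = 4) (c : F) (hc : c ≠ 0) :
    ∃ x : ↥(threeJ3 F ω), chM x = c • (1 : Matrix (Fin 9) (Fin 9) F) := by
  have hs : chM (wval γ wS) = ω • (1 : Matrix (Fin 9) (Fin 9) F) := by
    have := scal_of_chk hX hI wS c_wS.1 2 (by norm_num) bs1L c_bs1 c_wS.2
    rwa [S.h2] at this
  have hb : Function.Bijective (fun k : Fin 4 => S.R.φ k) := by
    rw [Fintype.bijective_iff_injective_and_card]
    refine ⟨?_, by simp [hF]⟩
    intro a b e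
    exact Fin.ext (S.R.hinj _ _ a.2 b.2 e)
  obtain ⟨k, hk⟩ := hb.2 c
  obtain ⟨k, hkl⟩ := k
  simp only at hk
  interval_cases k
  · rw [S.R.h0] at hk
    exact absurd hk.symm hc
  · rw [S.R.h1] at hk
    exact ⟨1, by rw [map_one, ← hk, one_smul]⟩
  · rw [S.h2] at hk
    exact ⟨_, by rw [hs, hk]⟩
  · rw [S.h3] at hk
    refine ⟨wval γ wS * wval γ wS, ?_⟩
    rw [map_mul, hs, ← hk, smul_mul_smul_comm, one_mul, sq]

include hX hI in
/-- The points are closed under scalars. -/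
theorem scal_closed [Fintype F] (hF : Fintype.card F = 4) (i : ℕ) (hi : i < 69768) (c : F) (hc : c ≠ 0) :
    ∃ j < 69768, toV S.R.φ 9 (pt j) = c • toV S.R.φ 9 (pt i) := by
  obtain ⟨x1, h1⟩ := word_orb hX hI i hi
  obtain ⟨x2, h2⟩ := exists_scal hX hI hF c hc
  obtain ⟨j, hj, h3⟩ := orb_word hX hI (x2 * x1)
  refine ⟨j, hj, ?_⟩
  rw [← h3, map_mul, ← Matrix.mulVec_mulVec, h1, h2, Matrix.smul_mulVec, Matrix.one_mulVec]

include hX hI in
/-- The points are not zero. -/
theorem pt_ne (i : ℕ) (hi : i < 69768) : toV S.R.φ 9 (pt i) ≠ 0 := by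
  intro h
  obtain ⟨x, hx⟩ := word_orb hX hI i hi
  have h1 : chM x⁻¹ *ᵥ (chM x *ᵥ toV S.R.φ 9 (pt 0)) = toV S.R.φ 9 (pt 0) := by
    rw [Matrix.mulVec_mulVec, ← map_mul, inv_mul_cancel, map_one, Matrix.one_mulVec]
  rw [hx, h, Matrix.mulVec_zero, base_vec S] at h1
  have h2 := congrFun h1 0
  simp at h2

include hX hI in
/-- The number of lines. -/
theorem lines_count [Fintype F] (hF : Fintype.card F = 4) :
    {L : Submodule F (F9 → F) | ∃ g ∈ threeJ3 F ω,
      L = Submodule.span F {((g : Matrix F9 F9 F) *ᵥ (Pi.single (0 : F9) (1 : F) : F9 → F))}}.ncard = 23256 := by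
  classical
  set Pv : ℕ → (F9 → F) := fun i => (toV S.R.φ 9 (pt i)) ∘ e9.symm with hPv
  have hcomp : ∀ u : F9 → F, ∀ i, u ∘ e9 = toV S.R.φ 9 (pt i) → u = Pv i := by
    intro u i h
    ext z
    simp only [hPv, Function.comp_apply, ← h, Equiv.apply_symm_apply]
  have hcomp' : ∀ i, Pv i ∘ e9 = toV S.R.φ 9 (pt i) := by
    intro i
    ext z
    simp [hPv]
  have he0 : (Pi.single (0 : F9) (1 : F) : F9 → F) ∘ e9 = toV S.R.φ 9 (pt 0) := by
    rw [base_vec S]
    ext i
    have e0 : e9 (0 : Fin 9) = (0 : F9) := by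
      rw [e9_apply]
      rfl
    simp only [Function.comp_apply, Pi.single_apply]
    by_cases h : i = 0
    · subst h
      simp [e0]
    · have : e9 i ≠ 0 := by
        intro h1
        rw [← e0] at h1
        exact h (e9.injective h1)
      simp [h, this]
  have hO : ∀ x : ↥(threeJ3 F ω), ∃ j < 69768,
      ((x.1 : GL F9 F) : Matrix F9 F9 F) *ᵥ (Pi.single (0 : F9) (1 : F) : F9 → F) = Pv j := by
    intro x
    obtain ⟨j, hj, h⟩ := orb_word hX hI x
    refine ⟨j, hj, hcomp _ _ ?_⟩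
    rw [chM_mulVec, he0, h]
  have hO' : ∀ j < 69768, ∃ x : ↥(threeJ3 F ω),
      ((x.1 : GL F9 F) : Matrix F9 F9 F) *ᵥ (Pi.single (0 : F9) (1 : F) : F9 → F) = Pv j := by
    intro j hj
    obtain ⟨x, h⟩ := word_orb hX hI j hj
    refine ⟨x, hcomp _ _ ?_⟩
    rw [chM_mulVec, he0, h]
  set O' : Finset (F9 → F) := (Finset.range 69768).image Pv with hO'd
  have hcard : O'.card = 69768 := by
    rw [hO'd, Finset.card_image_of_injOn, Finset.card_range]
    intro i hi j hj e
    have hi' : i < 69768 := by simpa using hi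
    have hj' : j < 69768 := by simpa using hj
    refine hP_inj hX hI i hi' j hj' ?_
    rw [← hcomp' i, ← hcomp' j, e]
  set f : (F9 → F) → Submodule F (F9 → F) := fun v => Submodule.span F {v} with hf
  have hA : {L : Submodule F (F9 → F) | ∃ g ∈ threeJ3 F ω,
      L = Submodule.span F {((g : Matrix F9 F9 F) *ᵥ (Pi.single (0 : F9) (1 : F) : F9 → F))}} =
      ↑(O'.image f) := by
    ext L
    simp only [Set.mem_setOf_eq, Finset.coe_image, Set.mem_image, Finset.mem_coe]
    constructor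
    · rintro ⟨g, hg, rfl⟩
      obtain ⟨j, hj, h⟩ := hO ⟨g, hg⟩
      refine ⟨Pv j, Finset.mem_image.mpr ⟨j, Finset.mem_range.mpr hj, rfl⟩, ?_⟩
      simp only [hf]
      rw [← h]
    · rintro ⟨v, hv, rfl⟩
      obtain ⟨j, hj, rfl⟩ := Finset.mem_image.mp hv
      obtain ⟨x, hx⟩ := hO' j (Finset.mem_range.mp hj)
      refine ⟨x.1, x.2, ?_⟩
      simp only [hf]
      rw [hx]
  rw [hA, Set.ncard_coe_finset]
  have hfib : ∀ b ∈ O'.image f, (O'.filter fun a => f a = b).card = 3 := by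
    intro b hb
    obtain ⟨v, hv, rfl⟩ := Finset.mem_image.mp hb
    obtain ⟨i, hi, rfl⟩ := Finset.mem_image.mp hv
    have hi' : i < 69768 := Finset.mem_range.mp hi
    have hne : Pv i ≠ 0 := by
      intro h
      apply pt_ne hX hI i hi'
      rw [← hcomp' i, h]
      rfl
    have hset : (O'.filter fun a => f a = f (Pv i)) =
        (Finset.univ.filter fun c : F => c ≠ 0).image (fun c : F => c • Pv i) := by
      ext w
      simp only [Finset.mem_filter, Finset.mem_image, Finset.mem_univ, true_and]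
      constructor
      · rintro ⟨_, e⟩
        obtain ⟨z, hz⟩ := (Submodule.span_singleton_eq_span_singleton).mp e.symm
        exact ⟨z, z.ne_zero, hz⟩
      · rintro ⟨c, hc, rfl⟩
        refine ⟨?_, Submodule.span_singleton_smul_eq (IsUnit.mk0 c hc) _⟩
        obtain ⟨j, hj, h⟩ := scal_closed hX hI hF i hi' c hc
        refine Finset.mem_image.mpr ⟨j, Finset.mem_range.mpr hj, ?_⟩
        ext z
        simp only [hPv, Function.comp_apply, h, Pi.smul_apply]
    rw [hset, Finset.card_image_of_injective _ (smul_left_injective F hne), Finset.filter_ne',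
      Finset.card_erase_of_mem (Finset.mem_univ _), Finset.card_univ, hF]
  have h := Finset.card_eq_sum_card_image f O'
  rw [Finset.sum_congr rfl hfib, Finset.sum_const, smul_eq_mul, hcard] at h
  omega

end main

end IsoL

end Cfsg.Agent.Lib.KnownSimple.J3Lab
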