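import Cfsg.Agent.Lib.KnownSimple.J3Lab.OutD

/-! Checks for the automorphisms of the third Janko group: tables. -/

set_option autoImplicit false
set_option maxRecDepth 100000

namespace Cfsg.Agent.Lib.KnownSimple.J3Lab.Ot

open Cfsg.Agent.Lib.KnownSimple.Lab Cfsg.Agent.Lib.KnownSimple.LabField
open Cfsg.Agent.Lib.KnownSimple.LabVec Cfsg.Agent.Lib.KnownSimple.LabChev Cfsg.Agent.Lib.KnownSimple.LabPack
open Cfsg.Agent.Lib.KnownSimple.LabLevels Cfsg.Agent.Lib.KnownSimple.LabJ3

/-- The table of the element of order 19. -/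
def hVAf (i : ℕ) : Bool := Nat.beq (U 4 i) (walk V wa i)
/-- The table of the inverse. -/
def hVBf (i : ℕ) : Bool := Nat.blt (U 5 i) 69768 && Nat.beq (U 4 (U 5 i)) i

theorem hVA_c0 : allI hVAf 0 20000 = true := by decide +kernel
theorem hVA_c1 : allI hVAf 20000 20000 = true := by decide +kernel
theorem hVA_c2 : allI hVAf 40000 20000 = true := by decide +kernel
theorem hVA_c3 : allI hVAf 60000 9768 = true := by decide +kernel
theorem hVB_c0 : allI hVBf 0 30000 = true := by decide +kernel
theorem hVB_c1 : allI hVBf 30000 30000 = true := by decide +kernel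
theorem hVB_c2 : allI hVBf 60000 9768 = true := by decide +kernel

end Cfsg.Agent.Lib.KnownSimple.J3Lab.Ot
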