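import Cfsg.Agent.Lib.KnownSimple.J3Lab.OutD

/-! Checks for the automorphisms of the third Janko group: small ones. -/

set_option autoImplicit false
set_option maxRecDepth 100000

namespace Cfsg.Agent.Lib.KnownSimple.J3Lab.Ot

open Cfsg.Agent.Lib.KnownSimple.Lab Cfsg.Agent.Lib.KnownSimple.LabField
open Cfsg.Agent.Lib.KnownSimple.LabVec Cfsg.Agent.Lib.KnownSimple.LabChev Cfsg.Agent.Lib.KnownSimple.LabPack
open Cfsg.Agent.Lib.KnownSimple.LabLevels Cfsg.Agent.Lib.KnownSimple.LabJ3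

theorem c_rep0 : repW 0 = [] := by decide +kernel

theorem c_hR_all : allI hRF 0 1377 = true := by decide +kernel

theorem c_rels : ∀ R ∈ relB, (∀ a ∈ subX R, a < 4) ∧ chk (subX R) = true := by decide +kernel

theorem c_levelsC : levelsOK Vc 69768 2 LvCe = true := by decide +kernel

theorem c_LvCe : (LvCe.map fun l => l.2.length).prod = 5760 := by decide +kernel

theorem c_cw : ∀ a < 2, (∀ l ∈ cwL.getD a [], l < 4) ∧
    chkL bsL (cwL.getD a [] ++ wt ++ invW (cwL.getD a []) ++ invW wt) = true := by decide +kernel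

theorem c_Ptau : ∀ a < 4, ∀ i < 128, (tauL.getD a []).getD i 0 < 128 ∧
    (∀ l ∈ pgL.getD a [], l < 4) ∧ (∀ l ∈ LPL.getD i [], l < 4) ∧
    chkL bsL (pgL.getD a [] ++ (LPL.getD i [] ++ invW (LPL.getD ((tauL.getD a []).getD i 0) []))) = true := by decide +kernel

theorem c_Psig : ∀ i < 128, walk V (LPL.getD i []) 0 = sgPL.getD i 0 := by decide +kernel

theorem c_Psig2 : ∀ i < 128, ∀ j < 128, sgPL.getD i 0 = sgPL.getD j 0 → i = j := by decide +kernel

theorem c_Ptree : ∀ i < 128, 0 < i → prL.getD i 0 < i ∧ gnL.getD i 0 < 4 ∧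
    (tauL.getD (gnL.getD i 0) []).getD (prL.getD i 0) 0 = i := by decide +kernel

theorem c_Pinv : ∀ i < 128, i = 0 ∨ chkL bsL (LPL.getD i [] ++ LPL.getD i []) = false ∨
    ((∀ l ∈ zLL.getD i [], l < 4) ∧
      chkL bsL (zLL.getD i [] ++ wt ++ invW (zLL.getD i []) ++ invW (LPL.getD i [])) = true) := by decide +kernel

theorem c_gen : (∀ a ∈ subS wXs ++ [2], a < 4) ∧ chkL bsL (subS wXs ++ [2]) = true ∧
    (∀ a ∈ subS wYs ++ [3], a < 4) ∧ chkL bsL (subS wYs ++ [3]) = true := by decide +kernel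

theorem c_a : (∀ a ∈ wa, a < 2) ∧ (∀ a ∈ wt, a < 2) ∧ (∀ a ∈ invW wa, a < 4) ∧
    3 ≤ walk V wa 0 ∧ 3 ≤ walk V wt 0 := by decide +kernel

theorem c_a19 : chk ((List.replicate 19 wa).flatten) = true ∧ (∀ a ∈ (List.replicate 19 wa).flatten, a < 4) := by decide +kernel

theorem c_t2 : chk (wt ++ wt) = true ∧ (∀ a ∈ wt ++ wt, a < 4) := by decide +kernel

theorem c_bw : (∀ a ∈ bw, a < 4) ∧ (∀ a ∈ invW bw, a < 4) ∧
    chk (bw ++ (wa ++ (invW bw ++ (List.replicate 17 (invW wa)).flatten))) = true ∧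
    (∀ a ∈ bw ++ (wa ++ (invW bw ++ (List.replicate 17 (invW wa)).flatten)), a < 4) := by decide +kernel

theorem c_F : ∀ a < 2, (colsF a).length = 9 ∧ ∀ j < 9, ∀ c < 4, ∀ i < 9,
    dig 2 (nthL ((colsF a).getD j []) c) i = mul4 c (fc (entryS add4 ((XA a).getD i []) j)) ∧
      entryS add4 ((XA a).getD i []) j < 4 := by decide +kernel

theorem c_M : colsM.length = 9 ∧ ∀ j < 9, ∀ c < 4, ∀ i < 9,
    dig 2 (nthL (colsM.getD j []) c) i = mul4 c (Mc.getD (i * 9 + j) 0) := by decide +kernel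

theorem c_Mi : LabMat.mulC add4 mul4 9 Mc Mic = LabMat.idC 9 := by decide +kernel

theorem c_Ma : ∀ j < 9, midxL.getD j 0 < 69768 ∧
    mvP 2 4 colsM (ptc (bsL.getD j 0)) 0 = ptc (midxL.getD j 0) ∧
    mvP 2 4 colsM (wF wa (ptc (bsL.getD j 0))) 0 = ptc (walk V ya (midxL.getD j 0)) ∧
    mvP 2 4 colsM (wF wt (ptc (bsL.getD j 0))) 0 = ptc (walk V yt (midxL.getD j 0)) := by decide +kernel

theorem c_y : (∀ a ∈ ya, a < 4) ∧ (∀ a ∈ yt, a < 4) := by decide +kernel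

end Cfsg.Agent.Lib.KnownSimple.J3Lab.Ot
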