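import Cfsg.Agent.Lib.KnownSimple.J3Lab.OutM
import Cfsg.Agent.Lib.KnownSimple.LabFinal

/-! The outer automorphism of the third Janko group. -/

set_option autoImplicit false
set_option maxRecDepth 100000

namespace Cfsg.Agent.Lib.KnownSimple.J3Lab.Ot

open Cfsg.Agent.Lib.KnownSimple.Lab Cfsg.Agent.Lib.KnownSimple.LabField
open Cfsg.Agent.Lib.KnownSimple.LabVec Cfsg.Agent.Lib.KnownSimple.LabChev Cfsg.Agent.Lib.KnownSimple.LabPack Cfsg.Spor
open Cfsg.Agent.Lib.KnownSimple.LabLevels Cfsg.Agent.Lib.KnownSimple.LabJ3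
open scoped Matrix Pointwise
open Rp IsoL

section frob

variable {F : Type*} [Field F] {ω : F}

/-- The Frobenius map. -/
def frF (h2 : (2 : F) = 0) : F →+* F where
  toFun x := x ^ 2
  map_one' := one_pow 2
  map_mul' x y := mul_pow x y 2
  map_zero' := by simp
  map_add' x y := by linear_combination (x * y) * h2

variable {S : R4 F ω} {γ : ℕ → ↥(threeJ3 F ω)}

theorem fr_phi (hω : ω ^ 2 + ω + 1 = 0) (S : R4 F ω) (h2 : (2 : F) = 0) (e : ℕ) (he : e < 4) :
    frF h2 (S.R.φ e) = S.R.φ (fc e) := by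
  have h3 : ω ^ 3 = 1 := omega_cube hω
  interval_cases e
  · show (S.R.φ 0) ^ 2 = S.R.φ 0
    rw [S.R.h0]
    simp
  · show (S.R.φ 1) ^ 2 = S.R.φ 1
    rw [S.R.h1]
    simp
  · show (S.R.φ 2) ^ 2 = S.R.φ 3
    rw [S.h2, S.h3]
  · show (S.R.φ 3) ^ 2 = S.R.φ 2
    rw [S.h3, S.h2]
    have : (ω ^ 2) ^ 2 = ω ^ 3 * ω := by ring
    rw [this, h3, one_mul]

/-- The twisting matrix. -/
noncomputable def M9 (S : R4 F ω) : Matrix (Fin 9) (Fin 9) F := LabMat.toM S.R.φ 9 Mc
/-- The inverse of the twisting matrix. -/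
noncomputable def Mi9 (S : R4 F ω) : Matrix (Fin 9) (Fin 9) F := LabMat.toM S.R.φ 9 Mic

theorem hM1 (S : R4 F ω) : M9 S * Mi9 S = 1 := by
  rw [M9, Mi9, ← LabMat.toM_mulC S.R.hadd S.R.hmul S.R.h0, c_Mi, LabMat.toM_idC S.R.h0 S.R.h1]

theorem hM2 (S : R4 F ω) : Mi9 S * M9 S = 1 := mul_eq_one_comm.mp (hM1 S)

theorem hxS (S : R4 F ω) : ∀ x < 2 ^ 2, ∀ y < 2 ^ 2, S.R.φ (x ^^^ y) = S.R.φ x + S.R.φ y := by
  intro x hx y hy
  rw [← c_xor x hx y hy, S.R.hadd]

theorem M_unp (S : R4 F ω) (P : ℕ) :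
    M9 S *ᵥ unp S.R.φ 2 9 P = unp S.R.φ 2 9 (mvP 2 4 colsM P 0) := by
  have hcol : ∀ j : Fin 9, ∀ c < 2 ^ 2, ∀ i : Fin 9,
      unp S.R.φ 2 9 (nthL (colsM.getD j []) c) i = S.R.φ c * (M9 S) i j := by
    intro j c hc i
    simp only [unp, M9, LabMat.toM, Matrix.of_apply]
    rw [c_M.2 j j.2 c hc i i.2, S.R.hmul]
  exact mulVec_unp (hxS S) S.R.h0 _ _ c_M.1 hcol P

section letters

variable (hX : ∀ a < 2, chM (γ a) = toMS S.R.φ add4 9 (XA a))
  (hI : ∀ a < 2, γ (a + 2) = (γ a)⁻¹)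
  (hω : ω ^ 2 + ω + 1 = 0) (h2 : (2 : F) = 0)

include hX hω in
theorem letter_F (a : ℕ) (ha : a < 2) (P : ℕ) :
    (chM (γ a)).map (frF h2) *ᵥ unp S.R.φ 2 9 P = unp S.R.φ 2 9 (mvP 2 4 (colsF a) P 0) := by
  obtain ⟨c4, c5⟩ := c_F a ha
  have hcol : ∀ j : Fin 9, ∀ c < 2 ^ 2, ∀ i : Fin 9,
      unp S.R.φ 2 9 (nthL ((colsF a).getD j []) c) i = S.R.φ c * ((chM (γ a)).map (frF h2)) i j := by
    intro j c hc i
    rw [hX a ha]
    simp only [unp, toMS, Matrix.map_apply, Matrix.of_apply]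
    obtain ⟨h5, h6⟩ := c5 j j.2 c hc i i.2
    rw [h5, S.R.hmul, fr_phi hω S h2 _ h6]
  exact mulVec_unp (hxS S) S.R.h0 _ _ c4 hcol P

include hX hω in
theorem wF_unp (w : List ℕ) (hw : ∀ a ∈ w, a < 2) (P : ℕ) :
    (chM (wval γ w)).map (frF h2) *ᵥ unp S.R.φ 2 9 P = unp S.R.φ 2 9 (wF w P) := by
  induction w with
  | nil =>
    have e : (chM (wval γ [])).map (frF h2) = 1 := by
      rw [wval_nil, map_one]
      exact Matrix.map_one _ (map_zero _) (map_one _)
    rw [e, Matrix.one_mulVec]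
    rfl
  | cons a w ih =>
    have e : (chM (wval γ (a :: w))).map (frF h2) =
        (chM (γ a)).map (frF h2) * (chM (wval γ w)).map (frF h2) := by
      rw [wval_cons, map_mul]
      exact Matrix.map_mul
    rw [e, ← Matrix.mulVec_mulVec, ih (fun b hb => hw b (by simp [hb])),
      letter_F hX hω h2 a (hw a (by simp))]
    rfl

include hX hI hω in
theorem key_eq (x y : List ℕ) (hx : ∀ a ∈ x, a < 2) (hy : ∀ a ∈ y, a < 4)
    (hc : ∀ j < 9, mvP 2 4 colsM (wF x (ptc (bsL.getD j 0))) 0 = ptc (walk V y (midxL.getD j 0))) :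
    M9 S * (chM (wval γ x)).map (frF h2) = chM (wval γ y) * M9 S := by
  apply eq_of_units
  intro j
  obtain ⟨h3, h4⟩ := c_bs j j.2
  have he : Pi.single j 1 = unp S.R.φ 2 9 (ptc (bsL.getD j 0)) := by
    rw [← hPu S, h4]
    exact (toV_unitC S j).symm
  obtain ⟨m1, m2, _, _⟩ := c_Ma j j.2
  rw [he, ← Matrix.mulVec_mulVec, wF_unp hX hω h2 x hx, M_unp, hc j j.2, ← hPu S,
    ← Matrix.mulVec_mulVec, M_unp, m2, ← hPu S]
  exact (word_pt hX hI y hy _ m1).2.symm

/-- The twisted map. -/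
noncomputable def Th (S : R4 F ω) (h2 : (2 : F) = 0) (A : Matrix (Fin 9) (Fin 9) F) :
    Matrix (Fin 9) (Fin 9) F := M9 S * A.map (frF h2) * Mi9 S

theorem Th_mul (A B : Matrix (Fin 9) (Fin 9) F) : Th S h2 (A * B) = Th S h2 A * Th S h2 B := by
  have e : (A * B).map (frF h2) = A.map (frF h2) * B.map (frF h2) := Matrix.map_mul
  simp only [Th]
  rw [e]
  calc M9 S * (A.map (frF h2) * B.map (frF h2)) * Mi9 S
      = M9 S * A.map (frF h2) * (Mi9 S * M9 S) * B.map (frF h2) * Mi9 S := by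
        rw [hM2 S]; simp only [mul_one, mul_assoc]
    _ = _ := by simp only [mul_assoc]

theorem Th_one : Th S h2 1 = 1 := by
  have e : (1 : Matrix (Fin 9) (Fin 9) F).map (frF h2) = 1 :=
    Matrix.map_one _ (map_zero _) (map_one _)
  simp only [Th]
  rw [e, mul_one, hM1]

theorem Th_inj : Function.Injective (Th S h2) := by
  intro A B h
  have h3 : A.map (frF h2) = B.map (frF h2) := by
    have e : ∀ C : Matrix (Fin 9) (Fin 9) F, C.map (frF h2) = Mi9 S * Th S h2 C * M9 S := by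
      intro C
      simp only [Th]
      calc C.map (frF h2) = (Mi9 S * M9 S) * C.map (frF h2) * (Mi9 S * M9 S) := by
            rw [hM2 S]; simp
        _ = _ := by simp only [mul_assoc]
    rw [e A, e B, h]
  ext i j
  have h4 := congrFun (congrFun h3 i) j
  simp only [Matrix.map_apply] at h4
  exact (frF h2).injective h4

theorem Th_scal (c : F) : Th S h2 (c • (1 : Matrix (Fin 9) (Fin 9) F)) = (c ^ 2) • (1 : Matrix (Fin 9) (Fin 9) F) := by
  have e : (c • (1 : Matrix (Fin 9) (Fin 9) F)).map (frF h2) = (c ^ 2) • (1 : Matrix (Fin 9) (Fin 9) F) := by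
    ext i j
    simp only [Matrix.map_apply, Matrix.smul_apply, Matrix.one_apply, smul_eq_mul]
    by_cases h : i = j
    · simp only [h, if_true, mul_one]
      rfl
    · simp only [h, if_false, mul_zero, map_zero]
  simp only [Th]
  rw [e, Matrix.mul_smul, mul_one, Matrix.smul_mul, hM1]

include hX hI hω in
/-- The twisted map preserves the group. -/
theorem exists_Th (x : ↥(threeJ3 F ω)) : ∃ y : ↥(threeJ3 F ω), chM y = Th S h2 (chM x) := by
  have hx : x ∈ Subgroup.closure ({aE γ, tE γ} : Set ↥(threeJ3 F ω)) := by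
    rw [hclo2 hX hI]
    trivial
  have hgen : ∀ (u v : List ℕ), (∀ a ∈ u, a < 2) → (∀ a ∈ v, a < 4) →
      (∀ j < 9, mvP 2 4 colsM (wF u (ptc (bsL.getD j 0))) 0 = ptc (walk V v (midxL.getD j 0))) →
      chM (wval γ v) = Th S h2 (chM (wval γ u)) := by
    intro u v hu hv h
    have h3 := key_eq hX hI hω h2 u v hu hv h
    simp only [Th]
    rw [h3, mul_assoc, hM1, mul_one]
  induction hx using Subgroup.closure_induction with
  | mem x hx =>
    rcases hx with rfl | hx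
    · exact ⟨wval γ ya, hgen wa ya c_a.1 c_y.1 (fun j hj => (c_Ma j hj).2.2.1)⟩
    · rw [Set.mem_singleton_iff.mp hx]
      exact ⟨wval γ yt, hgen wt yt c_a.2.1 c_y.2 (fun j hj => (c_Ma j hj).2.2.2)⟩
  | one =>
    refine ⟨1, ?_⟩
    rw [map_one, Th_one]
  | mul x y _ _ hx hy =>
    obtain ⟨u, hu⟩ := hx
    obtain ⟨v, hv⟩ := hy
    refine ⟨u * v, ?_⟩
    rw [map_mul, map_mul, hu, hv, Th_mul]
  | inv x _ hx =>
    obtain ⟨u, hu⟩ := hx
    refine ⟨u⁻¹, ?_⟩
    have h3 : chM u⁻¹ * chM u = 1 := by rw [← map_mul, inv_mul_cancel, map_one]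
    have h4 : chM u * Th S h2 (chM x⁻¹) = 1 := by
      rw [hu, ← Th_mul, ← map_mul, mul_inv_cancel, map_one, Th_one]
    exact left_inv_eq_right_inv h3 h4

include hX hI hω in
/-- The twisted automorphism of the cover. -/
theorem exists_T [Finite ↥(threeJ3 F ω)] :
    ∃ T : ↥(threeJ3 F ω) ≃* ↥(threeJ3 F ω), ∀ x, chM (T x) = Th S h2 (chM x) := by
  choose f hf using exists_Th (S := S) hX hI hω h2
  have hmul : ∀ a b, f (a * b) = f a * f b := by
    intro a b
    apply chM_inj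
    rw [hf, map_mul, map_mul, hf, hf, Th_mul]
  let fh : ↥(threeJ3 F ω) →* ↥(threeJ3 F ω) := MonoidHom.mk' f hmul
  have hinj : Function.Injective fh := by
    intro a b h
    have h3 : chM (f a) = chM (f b) := congrArg chM h
    rw [hf, hf] at h3
    exact chM_inj (Th_inj h2 h3)
  have hbij : Function.Bijective fh := ⟨hinj, Finite.injective_iff_surjective.mp hinj⟩
  exact ⟨MulEquiv.ofBijective fh hbij, fun x => hf x⟩

include hX hI hω in
/-- The twisted automorphism is not inner. -/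
theorem not_inner (T : ↥(threeJ3 F ω) ≃* ↥(threeJ3 F ω)) (hT : ∀ x, chM (T x) = Th S h2 (chM x))
    (τ : MulAut (J3 F ω)) (hτ : ∀ x, τ (piJ x) = piJ (T x)) : τ ∉ Cfsg.Inn (J3 F ω) := by
  rintro ⟨gb, hgb⟩
  obtain ⟨g, hg⟩ := QuotientGroup.mk'_surjective (Subgroup.center ↥(threeJ3 F ω)) gb
  have hg' : piJ g = gb := hg
  have hconj : ∀ x, τ (piJ x) = piJ (g * x * g⁻¹) := by
    intro x
    rw [← hgb, MulAut.conj_apply, map_mul, map_mul, map_inv, hg']
  have hc : ∀ x, T x * (g * x * g⁻¹)⁻¹ ∈ Subgroup.center ↥(threeJ3 F ω) := by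
    intro x
    apply (QuotientGroup.eq_one_iff _).mp
    show piJ (T x * (g * x * g⁻¹)⁻¹) = 1
    rw [map_mul, map_inv, ← hτ x, hconj x, mul_inv_cancel]
  let f : ↥(threeJ3 F ω) →* ↥(threeJ3 F ω) :=
    MonoidHom.mk' (fun x => T x * (g * x * g⁻¹)⁻¹) (by
      intro a b
      show T (a * b) * (g * (a * b) * g⁻¹)⁻¹ = T a * (g * a * g⁻¹)⁻¹ * (T b * (g * b * g⁻¹)⁻¹)
      have hz := Subgroup.mem_center_iff.mp (hc b) (g * a * g⁻¹)⁻¹
      calc T (a * b) * (g * (a * b) * g⁻¹)⁻¹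
          = T a * (T b * (g * b * g⁻¹)⁻¹ * (g * a * g⁻¹)⁻¹) := by
            rw [map_mul]
            group
        _ = T a * ((g * a * g⁻¹)⁻¹ * (T b * (g * b * g⁻¹)⁻¹)) := by rw [hz]
        _ = _ := (mul_assoc _ _ _).symm)
  have hfv : ∀ x, f x = T x * (g * x * g⁻¹)⁻¹ := fun x => rfl
  have hcomm : commutator ↥(threeJ3 F ω) ≤ f.ker := by
    rw [commutator_def, Subgroup.commutator_le]
    intro a _ b _
    rw [MonoidHom.mem_ker, map_commutatorElement, commutatorElement_eq_one_iff_commute]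
    have hz := Subgroup.mem_center_iff.mp (hc b) (f a)
    exact hz
  have hker : ∀ x, T x = g * x * g⁻¹ := by
    intro x
    have h4 : f x = 1 := hcomm (hperfect hX hI x)
    rw [hfv] at h4
    exact mul_inv_eq_one.mp h4
  have hs : chM (wval γ wS) = ω • (1 : Matrix (Fin 9) (Fin 9) F) := by
    have := scal_of_chk hX hI wS c_wS.1 2 (by norm_num) bs1L c_bs1 c_wS.2
    rwa [S.h2] at this
  have hsc := central_of_scal hs
  have h6 : T (wval γ wS) = wval γ wS := by
    rw [hker, Subgroup.mem_center_iff.mp hsc g, mul_inv_cancel_right]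
  have h7 := hT (wval γ wS)
  rw [h6, hs, Th_scal] at h7
  have h8 := congrFun (congrFun h7 0) 0
  simp only [Matrix.smul_apply, Matrix.one_apply_eq, smul_eq_mul, mul_one] at h8
  have hne1 : ω ≠ 1 := omega_ne_one (S := S)
  have hne0 : ω ≠ 0 := by
    rintro rfl
    simp at hω
  have h9 : ω * (ω - 1) = 0 := by linear_combination -h8
  rcases mul_eq_zero.mp h9 with h | h
  · exact hne0 h
  · exact hne1 (sub_eq_zero.mp h)

end letters

end frob

/-- The lemma on powers of a word. -/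
theorem wval_flat {M : Type*} [Monoid M] (g : ℕ → M) (w : List ℕ) (n : ℕ) :
    wval g (List.replicate n w).flatten = wval g w ^ n := by
  induction n with
  | zero => simp
  | succ n ih =>
    rw [List.replicate_succ, List.flatten_cons, wval_append, ih, pow_succ']

/-- The outer automorphism group. -/
theorem out_result {F : Type*} [Field F] [Fintype F] (hF : Fintype.card F = 4) (ω : F) (hω : ω ^ 2 + ω + 1 = 0)
    (hVA : ∀ i < 69768, U 4 i = walk V wa i)
    (hVB : ∀ i < 69768, U 5 i < 69768 ∧ U 4 (U 5 i) = i)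
    (hS : ∀ k < 26163, hSF k = true) :
    Nat.card (Cfsg.Out (Cfsg.Spor.J3 F ω)) = 2 := by
  classical
  obtain ⟨S⟩ := exists_R4 hF hω
  obtain ⟨γ, hX, hI⟩ := exists_letters S
  have hclo := hclosure hX hI
  have hcc := card_center hX hI hω
  set π : ↥(threeJ3 F ω) →* Cfsg.Spor.J3 F ω := piJ with hπ
  set g : ℕ → Cfsg.Spor.J3 F ω := fun a => π (γ a) with hg
  have hgi : ∀ a < 2, g (a + 2) = (g a)⁻¹ := by
    intro a ha
    simp only [hg, hI a ha, map_inv]
  have hgen : Subgroup.closure (g '' {a | a < 2 * 2}) = ⊤ := by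
    have h1 : g '' {a | a < 2 * 2} = π '' (γ '' {a | a < 2 * 2}) := by
      rw [Set.image_image]
    rw [h1, ← MonoidHom.map_closure, hclo, ← MonoidHom.range_eq_map, MonoidHom.range_eq_top]
    exact QuotientGroup.mk'_surjective _
  have hwv : ∀ w : List ℕ, wval g w = π (wval γ w) := by
    intro w
    rw [map_wval]
  have heq : ∀ w : List ℕ, (∀ a ∈ w, a < 4) → chk w = true → π (wval γ w) = 1 := by
    intro w hw h
    exact (QuotientGroup.eq_one_iff _).mpr (central_of_chk hX hI w hw h)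
  have h2c := Subgroup.card_eq_card_quotient_mul_card_subgroup (Subgroup.center ↥(threeJ3 F ω))
  have hcardJ : Nat.card (Cfsg.Spor.J3 F ω) = 50232960 := by
    apply le_antisymm (card_le g hgi hgen (fun w hw h => by rw [hwv]; exact heq w hw h))
    have h1 := card_ge hX hI
    rw [hcc] at h2c
    have h3 : Nat.card (Cfsg.Spor.J3 F ω) = Nat.card (↥(threeJ3 F ω) ⧸ Subgroup.center ↥(threeJ3 F ω)) := rfl
    omega
  have hcardH : Nat.card ↥(threeJ3 F ω) = 150698880 := by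
    rw [hcc] at h2c
    have h3 : Nat.card (Cfsg.Spor.J3 F ω) = Nat.card (↥(threeJ3 F ω) ⧸ Subgroup.center ↥(threeJ3 F ω)) := rfl
    omega
  have h2 : (2 : F) = 0 := char2 (S := S)
  -- the element of order 19
  set x : Cfsg.Spor.J3 F ω := π (aE γ) with hx
  have hx19 : x ^ 19 = 1 := by
    have h1 := heq _ c_a19.2 c_a19.1
    rw [wval_flat, map_pow] at h1
    exact h1
  have hx1 : x ≠ 1 := by
    intro h
    have h1 : piJ (wval (gE γ) wa) = 1 := by
      rw [wval_gE wa wa4]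
      exact h
    have h3 := walk_small hX hI hVA hVB wa (fun a ha => by have := wa4 a ha; omega) h1
    have h4 : walk U wa 0 = walk V wa 0 := by decide +kernel
    have h5 := c_a.2.2.2.1
    omega
  haveI : Fact (Nat.Prime 19) := ⟨by norm_num⟩
  have ho : orderOf x = 19 := orderOf_eq_prime hx19 hx1
  have hn : π (wval γ bw) * x * (π (wval γ bw))⁻¹ = x ^ 17 := by
    obtain ⟨h3, h4, h5, h6⟩ := c_bw
    have h7 := heq _ h6 h5
    rw [wval_append, wval_append, wval_append, wval_flat, wval_invW4 hI bw h3, wval_invW4 hI wa wa4,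
      map_mul, map_mul, map_mul, map_inv, map_pow, map_inv] at h7
    have h8 : π (wval γ bw) * (x * ((π (wval γ bw))⁻¹ * (x⁻¹) ^ 17)) = 1 := h7
    rw [inv_pow, ← mul_assoc, ← mul_assoc, mul_inv_eq_one] at h8
    exact h8
  have hr : ∀ k, 0 < k → k < 19 → ∃ j, (k * 17 ^ j) % 19 = 1 ∨ (k * 17 ^ j) % 19 = 19 - 1 := by
    have h1 : ∀ k < 19, 0 < k → ∃ j < 9, (k * 17 ^ j) % 19 = 1 ∨ (k * 17 ^ j) % 19 = 19 - 1 := by
      decide
    intro k h3 h4
    obtain ⟨j, _, hj⟩ := h1 k h4 h3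
    exact ⟨j, hj⟩
  have hpp : ¬ 19 ^ 2 ∣ Nat.card (Cfsg.Spor.J3 F ω) := by
    rw [hcardJ]
    norm_num
  have hnorm := fun φ : MulAut (Cfsg.Spor.J3 F ω) =>
    exists_conj_normalize x (π (wval γ bw)) 17 ho hpp hn hr φ
  have hfix : ∀ ψ : MulAut (Cfsg.Spor.J3 F ω), ψ x = x → ψ ∈ Cfsg.Inn (Cfsg.Spor.J3 F ω) :=
    fun ψ hψ => inner_of_fix hX hI hVA hVB hS hcardH hcc ψ hψ
  -- the twisted automorphism
  obtain ⟨T, hT⟩ := exists_T (S := S) hX hI hω h2
  let τ : MulAut (Cfsg.Spor.J3 F ω) := QuotientGroup.congr _ _ T (map_center_eq T)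
  have hτ : ∀ y, τ (piJ y) = piJ (T y) := fun y => rfl
  have hτn : τ ∉ Cfsg.Inn (Cfsg.Spor.J3 F ω) := not_inner hX hI hω h2 T hT τ hτ
  have hconj : ∀ c : Cfsg.Spor.J3 F ω, MulAut.conj c ∈ Cfsg.Inn (Cfsg.Spor.J3 F ω) := fun c => ⟨c, rfl⟩
  refine card_out_eq_two τ hτn ?_
  intro φ
  obtain ⟨c, hc⟩ := hnorm φ
  rcases hc with hc | hc
  · left
    have h1 := hfix _ hc
    have h3 : φ = (MulAut.conj c)⁻¹ * (MulAut.conj c * φ) := by group
    rw [h3]
    exact mul_mem (inv_mem (hconj c)) h1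
  · right
    obtain ⟨c2, hc2⟩ := hnorm τ
    rcases hc2 with hc2 | hc2
    · exfalso
      apply hτn
      have h1 := hfix _ hc2
      have h3 : τ = (MulAut.conj c2)⁻¹ * (MulAut.conj c2 * τ) := by group
      rw [h3]
      exact mul_mem (inv_mem (hconj c2)) h1
    · have h1 : ((MulAut.conj c2 * τ) * (MulAut.conj c * φ)) x = x := by
        rw [MulAut.mul_apply, hc, map_inv, hc2, inv_inv]
      have h3 := hfix _ h1
      -- rewrite
      have hnormal := Cfsg.innNormal (Cfsg.Spor.J3 F ω)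
      have h4 : τ * φ = (MulAut.conj c2)⁻¹ * ((MulAut.conj c2 * τ) * (MulAut.conj c)⁻¹ * (MulAut.conj c2 * τ)⁻¹) *
          ((MulAut.conj c2 * τ) * (MulAut.conj c * φ)) := by group
      rw [h4]
      exact mul_mem (mul_mem (inv_mem (hconj c2)) (hnormal.conj_mem _ (inv_mem (hconj c)) _)) h3

end Cfsg.Agent.Lib.KnownSimple.J3Lab.Ot
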