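import Cfsg.Agent.Lib.KnownSimple.J3Lab.IsoM
import Cfsg.Agent.Lib.KnownSimple.J3Lab.OutC1
import Cfsg.Agent.Lib.KnownSimple.TwoTrans
import Cfsg.Prelude.Def_KGroupFacts

/-! The automorphisms of the third Janko group. -/

set_option autoImplicit false
set_option maxRecDepth 100000

namespace Cfsg.Agent.Lib.KnownSimple.J3Lab.Ot

open Cfsg.Agent.Lib.KnownSimple.Lab Cfsg.Agent.Lib.KnownSimple.LabField
open Cfsg.Agent.Lib.KnownSimple.LabVec Cfsg.Agent.Lib.KnownSimple.LabChev Cfsg.Agent.Lib.KnownSimple.LabPack Cfsg.Spor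
open Cfsg.Agent.Lib.KnownSimple.LabLevels Cfsg.Agent.Lib.KnownSimple.LabJ3
open scoped Matrix Pointwise
open Rp IsoL

section abstract

variable {G : Type*} [Group G]

theorem card_out_eq_two (τ : MulAut G) (h1 : τ ∉ Cfsg.Inn G)
    (h2 : ∀ φ : MulAut G, φ ∈ Cfsg.Inn G ∨ τ * φ ∈ Cfsg.Inn G) : Nat.card (Cfsg.Out G) = 2 := by
  show (Cfsg.Inn G).index = 2
  rw [Subgroup.index_eq_two_iff_exists_notMem_and]
  refine ⟨τ, h1, fun φ => ?_⟩
  rcases h2 φ with h | h
  · exact Or.inr h
  · exact Or.inl ((Cfsg.innNormal G).mem_comm h)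

theorem conj_pow_eq_pow (a n : G) (r : ℕ) (hn : n * a * n⁻¹ = a ^ r) (k j : ℕ) :
    n ^ j * a ^ k * (n ^ j)⁻¹ = a ^ (k * r ^ j) := by
  induction j generalizing k with
  | zero => simp
  | succ j ih =>
    have h1 : n ^ (j + 1) * a ^ k * (n ^ (j + 1))⁻¹ = n ^ j * (n * a ^ k * n⁻¹) * (n ^ j)⁻¹ := by
      rw [pow_succ]; group
    rw [h1, ← conj_pow, hn, ← pow_mul, ih]
    congr 1
    rw [pow_succ]; ring

/-- Normalizing the image of an element generating a Sylow subgroup of prime order. -/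
theorem exists_conj_normalize [Finite G] {p : ℕ} [hp : Fact p.Prime] (a n : G) (r : ℕ)
    (ha : orderOf a = p) (hpp : ¬ p ^ 2 ∣ Nat.card G) (hn : n * a * n⁻¹ = a ^ r)
    (hr : ∀ k, 0 < k → k < p → ∃ j, (k * r ^ j) % p = 1 ∨ (k * r ^ j) % p = p - 1)
    (φ : MulAut G) :
    ∃ g : G, (MulAut.conj g * φ) a = a ∨ (MulAut.conj g * φ) a = a⁻¹ := by
  classical
  have hpp' : p.Prime := hp.out
  have hG0 : Nat.card G ≠ 0 := Nat.card_pos.ne'
  have hA : Nat.card (Subgroup.zpowers a) = p := by rw [Nat.card_zpowers, ha]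
  have hdvd : p ∣ Nat.card G := by rw [← hA]; exact Subgroup.card_subgroup_dvd_card _
  have hfact : (Nat.card G).factorization p = 1 := by
    have h1 : 1 ≤ (Nat.card G).factorization p :=
      (hpp'.pow_dvd_iff_le_factorization hG0).mp (by simpa using hdvd)
    have h2 : ¬ 2 ≤ (Nat.card G).factorization p := fun h =>
      hpp ((hpp'.pow_dvd_iff_le_factorization hG0).mpr h)
    omega
  set B : Subgroup G := (Subgroup.zpowers a).map φ.toMonoidHom with hB
  have hBc : Nat.card B = p := by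
    rw [hB, Subgroup.card_map_of_injective φ.injective, hA]
  let PA : Sylow p G := Sylow.ofCard (Subgroup.zpowers a) (by rw [hA, hfact, pow_one])
  let PB : Sylow p G := Sylow.ofCard B (by rw [hBc, hfact, pow_one])
  obtain ⟨g, hg⟩ := MulAction.exists_smul_eq G PB PA
  have hg' : ∀ x ∈ B, g * x * g⁻¹ ∈ Subgroup.zpowers a := by
    intro x hx
    have h1 : (g • PB : Sylow p G) = PA := hg
    have h2 : ((g • PB : Sylow p G) : Subgroup G) = Subgroup.zpowers a := by rw [h1]; rfl
    rw [Sylow.coe_subgroup_smul] at h2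
    rw [← h2]
    have h3 : MulAut.conj g • x ∈ MulAut.conj g • (PB : Subgroup G) :=
      Subgroup.smul_mem_pointwise_smul x _ _ hx
    exact h3
  have hφa : φ a ∈ B := ⟨a, Subgroup.mem_zpowers a, rfl⟩
  have h1 := hg' _ hφa
  obtain ⟨k, hk⟩ : ∃ k : ℕ, a ^ k = g * φ a * g⁻¹ := by
    have := (mem_powers_iff_mem_zpowers).mpr h1
    exact Submonoid.mem_powers_iff _ _ |>.mp this
  have hk' : a ^ (k % p) = g * φ a * g⁻¹ := by
    rw [← ha, pow_mod_orderOf, hk]
  have hkpos : 0 < k % p := by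
    rcases Nat.eq_zero_or_pos (k % p) with h0 | h0
    · exfalso
      rw [h0, pow_zero] at hk'
      have h3 : φ a = 1 := by
        have : g * φ a * g⁻¹ = 1 := hk'.symm
        have h4 : φ a = g⁻¹ * (g * φ a * g⁻¹) * g := by group
        rw [h4, this]; group
      have h4 : a = 1 := by
        have := φ.injective (h3.trans (map_one φ).symm)
        exact this
      rw [h4, orderOf_one] at ha
      exact hpp'.one_lt.ne ha
    · exact h0
  have hklt : k % p < p := Nat.mod_lt _ hpp'.pos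
  obtain ⟨j, hj⟩ := hr _ hkpos hklt
  refine ⟨n ^ j * g, ?_⟩
  have h5 : (MulAut.conj (n ^ j * g) * φ) a = a ^ ((k % p) * r ^ j) := by
    rw [← conj_pow_eq_pow a n r hn, hk']
    simp only [MulAut.mul_apply, MulAut.conj_apply]
    group
  rw [h5]
  rcases hj with hj | hj
  · left
    rw [← pow_mod_orderOf, ha, hj, pow_one]
  · right
    rw [← pow_mod_orderOf, ha, hj]
    have hap : a ^ p = 1 := by rw [← ha]; exact pow_orderOf_eq_one a
    rw [eq_inv_iff_mul_eq_one, ← pow_succ, Nat.sub_add_cancel hpp'.pos, hap]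

theorem eq_one_of_fix_gens (a b : G) (hgen : Subgroup.closure {a, b} = ⊤) (ψ : MulAut G)
    (h1 : ψ a = a) (h2 : ψ b = b) : ψ = 1 := by
  ext x
  have hx : x ∈ Subgroup.closure {a, b} := by rw [hgen]; trivial
  induction hx using Subgroup.closure_induction with
  | mem x hx =>
    rcases hx with rfl | hx
    · exact h1
    · rw [Set.mem_singleton_iff.mp hx]; exact h2
  | one => simp
  | mul x y _ _ hx hy => rw [map_mul, hx, hy]; rfl
  | inv x _ hx => rw [map_inv, hx]; rfl

/-- The value of a word. -/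
def wordVal {G : Type*} [Group G] (x y : G) (w : List Bool) : G :=
  (w.map fun c => if c then y else x).prod

theorem wordVal_cons (x y : G) (c : Bool) (w : List Bool) :
    wordVal x y (c :: w) = (if c then y else x) * wordVal x y w := by
  simp [wordVal]

theorem map_wordVal {G H : Type*} [Group G] [Group H] (f : G →* H) (x y : G) (w : List Bool) :
    f (wordVal x y w) = wordVal (f x) (f y) w := by
  induction w with
  | nil => simp [wordVal]
  | cons c w ih =>
    rw [wordVal_cons, wordVal_cons, map_mul, ih]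
    cases c <;> simp

theorem map_center_eq (e : G ≃* G) : (Subgroup.center G).map e.toMonoidHom = Subgroup.center G := by
  ext y
  constructor
  · rintro ⟨x, hx, rfl⟩
    have hx' : x ∈ Subgroup.center G := hx
    rw [Subgroup.mem_center_iff] at hx' ⊢
    intro g
    obtain ⟨g', rfl⟩ := e.surjective g
    have h1 := hx' g'
    show e g' * e x = e x * e g'
    rw [← map_mul, ← map_mul, h1]
  · intro hy
    refine ⟨e.symm y, ?_, by simp⟩
    rw [SetLike.mem_coe, Subgroup.mem_center_iff] at *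
    intro g
    have h1 := hy (e g)
    apply e.injective
    rw [map_mul, map_mul, MulEquiv.apply_symm_apply]
    exact h1

end abstract

section main

variable {F : Type*} [Field F] {ω : F} {S : R4 F ω} {γ : ℕ → ↥(threeJ3 F ω)}

/-- The extended letters. -/
noncomputable def gE (γ : ℕ → ↥(threeJ3 F ω)) (l : ℕ) : ↥(threeJ3 F ω) :=
  if l = 4 then wval γ wa else if l = 5 then (wval γ wa)⁻¹ else γ l

theorem gE_lt (l : ℕ) (hl : l < 4) : gE γ l = γ l := by
  unfold gE
  rw [if_neg (by omega), if_neg (by omega)]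

theorem gE_four : gE γ 4 = wval γ wa := by
  unfold gE
  rw [if_pos rfl]

theorem gE_five : gE γ 5 = (wval γ wa)⁻¹ := by
  unfold gE
  rw [if_neg (by omega), if_pos rfl]

theorem wval_gE (w : List ℕ) (hw : ∀ a ∈ w, a < 4) : wval (gE γ) w = wval γ w := by
  induction w with
  | nil => rfl
  | cons a w ih =>
    rw [wval_cons, wval_cons, gE_lt a (hw a (by simp)), ih (fun b hb => hw b (by simp [hb]))]

theorem invU_lt (a : ℕ) (h : a < 4) : invU a < 4 := by
  interval_cases a <;> decide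

theorem invW_cons (a : ℕ) (w : List ℕ) : invW (a :: w) = invW w ++ [invU a] := by
  simp [invW]

theorem invW_lt (w : List ℕ) (hw : ∀ a ∈ w, a < 4) : ∀ a ∈ invW w, a < 4 := by
  intro a ha
  simp only [invW, List.mem_reverse, List.mem_map] at ha
  obtain ⟨b, hb, rfl⟩ := ha
  exact invU_lt b (hw b hb)

theorem decR_lt : ∀ (f c : ℕ), ∀ a ∈ decR f c, a < 4 := by
  intro f
  induction f with
  | zero => intro c a h; simp [decR] at h
  | succ f ih =>
    intro c a h
    rw [decR] at h
    split_ifs at h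
    · simp at h
    · rcases List.mem_cons.mp h with rfl | h
      · exact Nat.mod_lt _ (by norm_num)
      · exact ih _ _ h

theorem wa4 : ∀ a ∈ wa, a < 4 := fun a ha => by have := c_a.1 a ha; omega
theorem wt4 : ∀ a ∈ wt, a < 4 := fun a ha => by have := c_a.2.1 a ha; omega

theorem rW_lt (j : ℕ) : ∀ a ∈ rW j, a < 4 := by
  intro a ha
  simp only [rW, List.mem_append] at ha
  rcases ha with ha | ha | ha
  · exact decR_lt _ _ a ha
  · exact wt4 a ha
  · exact invW_lt _ (decR_lt _ _) a ha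

theorem eW_lt (i j : ℕ) : ∀ a ∈ eW i j, a < 6 := by
  intro a ha
  simp only [eW, List.mem_append] at ha
  rcases ha with ha | ha | ha
  · rw [List.eq_of_mem_replicate ha]; norm_num
  · have := rW_lt j a ha; omega
  · rw [List.eq_of_mem_replicate ha]; norm_num

theorem subW_lt (j : ℕ) (R : List Bool) : ∀ a ∈ subW j R, a < 6 := by
  intro a ha
  simp only [subW, List.mem_flatMap] at ha
  obtain ⟨c, _, hc⟩ := ha
  cases c
  · simp only [Bool.false_eq_true, if_false, List.mem_singleton] at hc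
    omega
  · simp only [if_true] at hc
    have := rW_lt j a hc
    omega

/-- The element of order 19. -/
noncomputable def aE (γ : ℕ → ↥(threeJ3 F ω)) : ↥(threeJ3 F ω) := wval γ wa
/-- The involution. -/
noncomputable def tE (γ : ℕ → ↥(threeJ3 F ω)) : ↥(threeJ3 F ω) := wval γ wt
/-- The orbit representatives. -/
noncomputable def rE (γ : ℕ → ↥(threeJ3 F ω)) (j : ℕ) : ↥(threeJ3 F ω) :=
  wval γ (repW j) * tE γ * (wval γ (repW j))⁻¹
/-- The involutions. -/
noncomputable def eE (γ : ℕ → ↥(threeJ3 F ω)) (i j : ℕ) : ↥(threeJ3 F ω) :=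
  aE γ ^ i * rE γ j * (aE γ ^ i)⁻¹

/-- The map to the simple group. -/
noncomputable abbrev piJ : ↥(threeJ3 F ω) →* J3 F ω := QuotientGroup.mk' _

section letters

variable (hI : ∀ a < 2, γ (a + 2) = (γ a)⁻¹)

include hI in
theorem gE_inv (l : ℕ) (hl : l < 6) : gE γ (invU l) = (gE γ l)⁻¹ := by
  have h2 : γ 2 = (γ 0)⁻¹ := hI 0 (by norm_num)
  have h3 : γ 3 = (γ 1)⁻¹ := hI 1 (by norm_num)
  interval_cases l
  · show gE γ 2 = (gE γ 0)⁻¹
    rw [gE_lt 2 (by norm_num), gE_lt 0 (by norm_num), h2]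
  · show gE γ 3 = (gE γ 1)⁻¹
    rw [gE_lt 3 (by norm_num), gE_lt 1 (by norm_num), h3]
  · show gE γ 0 = (gE γ 2)⁻¹
    rw [gE_lt 2 (by norm_num), gE_lt 0 (by norm_num), h2, inv_inv]
  · show gE γ 1 = (gE γ 3)⁻¹
    rw [gE_lt 3 (by norm_num), gE_lt 1 (by norm_num), h3, inv_inv]
  · show gE γ 5 = (gE γ 4)⁻¹
    rw [gE_five, gE_four]
  · show gE γ 4 = (gE γ 5)⁻¹
    rw [gE_five, gE_four, inv_inv]

include hI in
theorem wval_invW (w : List ℕ) (hw : ∀ a ∈ w, a < 6) :
    wval (gE γ) (invW w) = (wval (gE γ) w)⁻¹ := by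
  induction w with
  | nil => simp [invW]
  | cons a w ih =>
    rw [invW_cons, wval_append, ih (fun b hb => hw b (by simp [hb])), wval_cons, wval_cons, wval_nil, mul_one,
      gE_inv hI a (hw a (by simp)), mul_inv_rev]

include hI in
theorem wval_invW4 (w : List ℕ) (hw : ∀ a ∈ w, a < 4) : wval γ (invW w) = (wval γ w)⁻¹ := by
  rw [← wval_gE _ (invW_lt w hw), wval_invW hI w (fun a ha => by have := hw a ha; omega), wval_gE w hw]

include hI in
theorem wval_rW (j : ℕ) : wval (gE γ) (rW j) = rE γ j := by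
  have h1 : ∀ a ∈ repW j, a < 4 := decR_lt _ _
  rw [rW, wval_append, wval_append, wval_gE _ h1, wval_gE wt wt4,
    wval_invW hI _ (fun a ha => by have := h1 a ha; omega), wval_gE _ h1]
  simp only [rE, tE, mul_assoc]

theorem wval_rep4 (i : ℕ) : wval (gE γ) (List.replicate i 4) = aE γ ^ i := by
  induction i with
  | zero => simp
  | succ i ih =>
    rw [List.replicate_succ, wval_cons, ih, gE_four, pow_succ']
    rfl

theorem wval_rep5 (i : ℕ) : wval (gE γ) (List.replicate i 5) = (aE γ ^ i)⁻¹ := by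
  induction i with
  | zero => simp
  | succ i ih =>
    rw [List.replicate_succ, wval_cons, ih, gE_five, pow_succ, mul_inv_rev]
    rfl

include hI in
theorem wval_eW (i j : ℕ) : wval (gE γ) (eW i j) = eE γ i j := by
  rw [eW, wval_append, wval_append, wval_rep4, wval_rep5, wval_rW hI]
  simp only [eE, mul_assoc]

theorem wval_subX (R : List Bool) : wval γ (subX R) = wordVal (aE γ) (tE γ) R := by
  induction R with
  | nil => simp [subX, wordVal]
  | cons c R ih =>
    have e : subX (c :: R) = (if c then wt else wa) ++ subX R := by simp [subX]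
    rw [e, wval_append, ih, wordVal_cons]
    cases c <;> rfl

include hI in
theorem wval_subW (j : ℕ) (R : List Bool) : wval (gE γ) (subW j R) = wordVal (aE γ) (rE γ j) R := by
  induction R with
  | nil => simp [subW, wordVal]
  | cons c R ih =>
    have e : subW j (c :: R) = (if c then rW j else [4]) ++ subW j R := by simp [subW]
    rw [e, wval_append, ih, wordVal_cons]
    cases c
    · simp only [Bool.false_eq_true, if_false]
      rw [wval_cons, wval_nil, mul_one, gE_four]
      rfl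
    · simp only [if_true]
      rw [wval_rW hI]

end letters

section letters2

variable (hX : ∀ a < 2, chM (γ a) = toMS S.R.φ add4 9 (XA a))
  (hI : ∀ a < 2, γ (a + 2) = (γ a)⁻¹)
  (hVA : ∀ i < 69768, U 4 i = walk V wa i)
  (hVB : ∀ i < 69768, U 5 i < 69768 ∧ U 4 (U 5 i) = i)
  (hS : ∀ k < 26163, hSF k = true)

include hX hI in
theorem conj_word_eq (x y z : List ℕ) (hx : ∀ a ∈ x, a < 4) (hy : ∀ a ∈ y, a < 4) (hz : ∀ a ∈ z, a < 4)
    (h : chkL bsL (x ++ y ++ invW x ++ invW z) = true) :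
    wval γ x * wval γ y * (wval γ x)⁻¹ = wval γ z := by
  have hl : ∀ a ∈ x ++ y ++ invW x ++ invW z, a < 4 := by
    intro a ha
    simp only [List.mem_append] at ha
    rcases ha with ((ha | ha) | ha) | ha
    · exact hx a ha
    · exact hy a ha
    · exact invW_lt x hx a ha
    · exact invW_lt z hz a ha
  have h1 := heqE hX hI _ hl h
  rw [wval_append, wval_append, wval_append, wval_invW4 hI x hx, wval_invW4 hI z hz] at h1
  exact mul_inv_eq_one.mp h1

include hX hI hVA in
theorem hU4 (i : ℕ) (hi : i < 69768) : U 4 i < 69768 ∧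
    chM (wval γ wa) *ᵥ toV S.R.φ 9 (pt i) = toV S.R.φ 9 (pt (U 4 i)) := by
  rw [hVA i hi]
  exact word_pt hX hI wa wa4 i hi

include hX hI hVA hVB in
theorem hU : ∀ l < 6, ∀ i < 69768, U l i < 69768 ∧
    chM (gE γ l) *ᵥ toV S.R.φ 9 (pt i) = toV S.R.φ 9 (pt (U l i)) := by
  intro l hl i hi
  by_cases h4 : l < 4
  · rw [gE_lt l h4]
    have e : U l i = V l i := by interval_cases l <;> rfl
    rw [e]
    exact Rp.hV hX hI l h4 i hi
  · have : l = 4 ∨ l = 5 := by omega
    rcases this with rfl | rfl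
    · rw [gE_four]
      exact hU4 hX hI hVA i hi
    · obtain ⟨h1, h2⟩ := hVB i hi
      refine ⟨h1, ?_⟩
      rw [gE_five]
      have h3 := (hU4 hX hI hVA _ h1).2
      rw [h2] at h3
      rw [← h3, Matrix.mulVec_mulVec, ← map_mul, inv_mul_cancel, map_one, Matrix.one_mulVec]

include hX hI hVA hVB in
theorem word_U (w : List ℕ) (hw : ∀ a ∈ w, a < 6) (i : ℕ) (hi : i < 69768) :
    walk U w i < 69768 ∧
      chM (wval (gE γ) w) *ᵥ toV S.R.φ 9 (pt i) = toV S.R.φ 9 (pt (walk U w i)) :=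
  word_pts (P := fun i => toV S.R.φ 9 (pt i)) chM (hU hX hI hVA hVB) w hw i hi

include hX hI in
/-- The centraliser of the involution is large. -/
theorem cent_card [Finite ↥(threeJ3 F ω)] :
    5760 ≤ Nat.card ↥(Subgroup.centralizer ({tE γ} : Set ↥(threeJ3 F ω))) := by
  set C := Subgroup.centralizer ({tE γ} : Set ↥(threeJ3 F ω)) with hC
  have hmem : ∀ a < 2, wval γ (cwL.getD a []) ∈ C := by
    intro a ha
    obtain ⟨h1, h2⟩ := c_cw a ha
    have h3 := conj_word_eq hX hI _ wt wt h1 wt4 wt4 h2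
    rw [hC, Subgroup.mem_centralizer_iff]
    rintro _ rfl
    rw [mul_inv_eq_iff_eq_mul] at h3
    exact h3.symm
  let gc : ℕ → ↥C := fun a => if h : a < 2 then ⟨wval γ (cwL.getD a []), hmem a h⟩ else 1
  have hV' : ∀ a < 2, ∀ i < 69768, Vc a i < 69768 ∧
      (chM.comp C.subtype) (gc a) *ᵥ toV S.R.φ 9 (pt i) = toV S.R.φ 9 (pt (Vc a i)) := by
    intro a ha i hi
    have h := word_pt hX hI _ (c_cw a ha).1 i hi
    simp only [gc, dif_pos ha]
    exact h
  have h := card_ge_levels (chM.comp C.subtype) gc Vc (fun i => toV S.R.φ 9 (pt i)) 2 69768 hV'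
    (hP_inj hX hI) LvCe c_levelsC
  rwa [c_LvCe] at h

include hX hI hVA hVB hS in
/-- The conjugates of the involution. -/
theorem class_mem [Finite ↥(threeJ3 F ω)] (hcardH : Nat.card ↥(threeJ3 F ω) = 150698880)
    (h : ↥(threeJ3 F ω)) :
    ∃ k < 26163, h * tE γ * h⁻¹ = eE γ (ij k / 2048) (ij k % 2048) ∧ ij k % 2048 < 1377 := by
  classical
  set C := Subgroup.centralizer ({tE γ} : Set ↥(threeJ3 F ω)) with hC
  have hsplit := Subgroup.card_eq_card_quotient_mul_card_subgroup C
  have hCc := cent_card (γ := γ) hX hI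
  have hq : Nat.card (↥(threeJ3 F ω) ⧸ C) ≤ 26163 := by
    rw [hcardH] at hsplit
    have h1 : Nat.card (↥(threeJ3 F ω) ⧸ C) * 5760 ≤ 26163 * 5760 := by
      calc Nat.card (↥(threeJ3 F ω) ⧸ C) * 5760 ≤ Nat.card (↥(threeJ3 F ω) ⧸ C) * Nat.card C :=
            Nat.mul_le_mul_left _ hCc
        _ = 26163 * 5760 := by rw [← hsplit]
    exact Nat.le_of_mul_le_mul_right h1 (by norm_num)
  have := Fintype.ofFinite (↥(threeJ3 F ω) ⧸ C)
  let φq : (↥(threeJ3 F ω) ⧸ C) → ↥(threeJ3 F ω) := fun q => q.out * tE γ * q.out⁻¹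
  have hφq : ∀ x : ↥(threeJ3 F ω), φq (x : ↥(threeJ3 F ω) ⧸ C) = x * tE γ * x⁻¹ := by
    intro x
    obtain ⟨c, hc⟩ := QuotientGroup.mk_out_eq_mul C x
    simp only [φq]
    rw [hc]
    have hc2 : tE γ * c.1 = c.1 * tE γ := (Subgroup.mem_centralizer_iff.mp c.2) _ rfl
    have h1 : c.1 * tE γ * c.1⁻¹ = tE γ := by
      rw [← hc2, mul_inv_cancel_right]
    have h2 : x * c.1 * tE γ * (x * c.1)⁻¹ = x * (c.1 * tE γ * c.1⁻¹) * x⁻¹ := by group
    rw [h2, h1]
  let B : Finset ↥(threeJ3 F ω) := Finset.univ.image φq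
  have hB : B.card ≤ 26163 := by
    refine le_trans Finset.card_image_le ?_
    rw [Finset.card_univ, ← Nat.card_eq_fintype_card]
    exact hq
  let e : ℕ → ↥(threeJ3 F ω) := fun k => eE γ (ij k / 2048) (ij k % 2048)
  have hs : ∀ k < 26163, walk U (eW (ij k / 2048) (ij k % 2048)) 0 * 131072 +
      walk U (eW (ij k / 2048) (ij k % 2048)) 121 = sg k ∧ ij k % 2048 < 1377 ∧
      (k = 26162 ∨ sg k < sg (k + 1)) := by
    intro k hk
    have h1 := hS k hk
    simp only [hSF, hSG, Bool.and_eq_true, Bool.or_eq_true] at h1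
    obtain ⟨⟨h2, h3⟩, h4⟩ := h1
    refine ⟨Nat.eq_of_beq_eq_true h2, Nat.le_of_ble_eq_true h3, ?_⟩
    rcases h4 with h4 | h4
    · exact Or.inl (Nat.eq_of_beq_eq_true h4)
    · exact Or.inr (Nat.le_of_ble_eq_true h4)
  have hmono : ∀ k k', k < k' → k' < 26163 → sg k < sg k' := by
    intro k k' hkk
    induction k', hkk using Nat.le_induction with
    | base =>
      intro h1
      rcases (hs k (by omega)).2.2 with h2 | h2
      · omega
      · exact h2
    | succ m hm ih =>
      intro h1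
      refine lt_trans (ih (by omega)) ?_
      rcases (hs m (by omega)).2.2 with h2 | h2
      · omega
      · exact h2
  have hpt : ∀ k, ∀ q, q < 69768 → chM (e k) *ᵥ toV S.R.φ 9 (pt q) =
      toV S.R.φ 9 (pt (walk U (eW (ij k / 2048) (ij k % 2048)) q)) ∧
      walk U (eW (ij k / 2048) (ij k % 2048)) q < 69768 := by
    intro k q hq
    obtain ⟨h1, h2⟩ := word_U hX hI hVA hVB _ (eW_lt (ij k / 2048) (ij k % 2048)) q hq
    rw [wval_eW hI] at h2
    exact ⟨h2, h1⟩
  have hinj : Set.InjOn e (Finset.range 26163 : Finset ℕ) := by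
    intro k hk k' hk' he
    have hk1 : k < 26163 := by simpa using hk
    have hk2 : k' < 26163 := by simpa using hk'
    have hq : ∀ q, q < 69768 → walk U (eW (ij k / 2048) (ij k % 2048)) q =
        walk U (eW (ij k' / 2048) (ij k' % 2048)) q := by
      intro q hq
      obtain ⟨h1, h2⟩ := hpt k q hq
      obtain ⟨h3, h4⟩ := hpt k' q hq
      rw [he, h3] at h1
      exact (hP_inj hX hI _ h4 _ h2 h1).symm
    have h5 : sg k = sg k' := by
      rw [← (hs k hk1).1, ← (hs k' hk2).1, hq 0 (by norm_num), hq 121 (by norm_num)]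
    rcases lt_trichotomy k k' with h | h | h
    · exact absurd h5 (hmono k k' h hk2).ne
    · exact h
    · exact absurd h5.symm (hmono k' k h hk1).ne
  let A : Finset ↥(threeJ3 F ω) := (Finset.range 26163).image e
  have hAc : A.card = 26163 := by
    rw [Finset.card_image_of_injOn hinj, Finset.card_range]
  have hAB : A ⊆ B := by
    intro y hy
    obtain ⟨k, _, rfl⟩ := Finset.mem_image.mp hy
    refine Finset.mem_image.mpr ⟨((aE γ ^ (ij k / 2048) * wval γ (repW (ij k % 2048)) : ↥(threeJ3 F ω)) :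
      ↥(threeJ3 F ω) ⧸ C), Finset.mem_univ _, ?_⟩
    rw [hφq]
    simp only [e, eE, rE]
    group
  have hEq : A = B := Finset.eq_of_subset_of_card_le hAB (by rw [hAc]; exact hB)
  have hy : h * tE γ * h⁻¹ ∈ A := by
    rw [hEq, ← hφq]
    exact Finset.mem_image.mpr ⟨_, Finset.mem_univ _, rfl⟩
  obtain ⟨k, hk, hke⟩ := Finset.mem_image.mp hy
  have hk1 : k < 26163 := by simpa using hk
  exact ⟨k, hk1, hke.symm, (hs k hk1).2.1⟩

include hX hI in
/-- A word that is trivial passes the test. -/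
theorem chkL_of_one (w : List ℕ) (hw : ∀ a ∈ w, a < 4) (h : wval γ w = 1) : chkL bsL w = true := by
  apply List.all_eq_true.mpr
  intro j hj
  have hj' := List.mem_range.mp hj
  obtain ⟨h1, h2⟩ := word_pt hX hI w hw _ (c_bs j hj').1
  rw [h, map_one, Matrix.one_mulVec] at h2
  have h3 := hP_inj hX hI _ (c_bs j hj').1 _ h1 h2
  rw [← h3]
  simp

include hX hI in
/-- All the involutions are conjugate. -/
theorem invol_conj [Finite ↥(threeJ3 F ω)] (hcardH : Nat.card ↥(threeJ3 F ω) = 150698880)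
    (u : ↥(threeJ3 F ω)) (hu2 : u ^ 2 = 1) (hu : u ≠ 1) :
    ∃ h : ↥(threeJ3 F ω), u = h * tE γ * h⁻¹ := by
  classical
  let ℓ : ℕ → ↥(threeJ3 F ω) := fun i => wval γ (LPL.getD i [])
  let gens : ℕ → ↥(threeJ3 F ω) := fun a => wval γ (pgL.getD a [])
  have hL : ∀ i < 128, ∀ l ∈ LPL.getD i [], l < 4 := fun i hi => (c_Ptau 0 (by norm_num) i hi).2.2.1
  have hτ : ∀ a < 4, ∀ i < 128, (tauL.getD a []).getD i 0 < 128 ∧
      gens a * ℓ i = ℓ ((tauL.getD a []).getD i 0) := by
    intro a ha i hi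
    obtain ⟨h1, h2, h3, h4⟩ := c_Ptau a ha i hi
    refine ⟨h1, ?_⟩
    have hl : ∀ b ∈ pgL.getD a [] ++ (LPL.getD i [] ++ invW (LPL.getD ((tauL.getD a []).getD i 0) [])), b < 4 := by
      intro b hb
      simp only [List.mem_append] at hb
      rcases hb with hb | hb | hb
      · exact h2 b hb
      · exact h3 b hb
      · exact invW_lt _ (hL _ h1) b hb
    have h5 := heqE hX hI _ hl h4
    rw [wval_append, wval_append, wval_invW4 hI _ (hL _ h1), ← mul_assoc] at h5
    exact mul_inv_eq_one.mp h5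
  have hinj : ∀ i < 128, ∀ j < 128, ℓ i = ℓ j → i = j := by
    intro i hi j hj e
    obtain ⟨h1, h2⟩ := word_pt hX hI _ (hL i hi) 0 (by norm_num)
    obtain ⟨h3, h4⟩ := word_pt hX hI _ (hL j hj) 0 (by norm_num)
    have e' : wval γ (LPL.getD i []) = wval γ (LPL.getD j []) := e
    rw [e', h4] at h2
    have h5 := hP_inj hX hI _ h3 _ h1 h2
    apply c_Psig2 i hi j hj
    rw [← c_Psig i hi, ← c_Psig j hj, h5]
  have htree : ∀ i, 0 < i → i < 128 → prL.getD i 0 < i ∧ gnL.getD i 0 < 4 ∧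
      (tauL.getD (gnL.getD i 0) []).getD (prL.getD i 0) 0 = i := fun i h1 h2 => c_Ptree i h2 h1
  have h0 : ℓ 0 = 1 := by
    have e : LPL.getD 0 [] = [] := by decide +kernel
    simp only [ℓ, e]
    rfl
  obtain ⟨hmem, hcardP⟩ := TwoTrans.list_subgroup ℓ 128 4 gens (fun a i => (tauL.getD a []).getD i 0)
    (fun i => prL.getD i 0) (fun i => gnL.getD i 0) (by norm_num) h0 hτ hinj htree
  haveI : Fact (Nat.Prime 2) := ⟨Nat.prime_two⟩
  have hfact : (Nat.card ↥(threeJ3 F ω)).factorization 2 = 7 := by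
    have hG0 : Nat.card ↥(threeJ3 F ω) ≠ 0 := by rw [hcardH]; norm_num
    have h1 : 7 ≤ (Nat.card ↥(threeJ3 F ω)).factorization 2 :=
      (Nat.prime_two.pow_dvd_iff_le_factorization hG0).mp (by rw [hcardH]; norm_num)
    have h2 : ¬ 8 ≤ (Nat.card ↥(threeJ3 F ω)).factorization 2 := fun h =>
      absurd ((Nat.prime_two.pow_dvd_iff_le_factorization hG0).mpr h) (by rw [hcardH]; norm_num)
    omega
  let PS : Sylow 2 ↥(threeJ3 F ω) := Sylow.ofCard (Subgroup.closure (gens '' {a | a < 4}))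
    (by rw [hcardP, hfact]; norm_num)
  have ho : orderOf u = 2 := orderOf_eq_prime hu2 hu
  have hpg : IsPGroup 2 (Subgroup.zpowers u) := IsPGroup.of_card (n := 1) (by
    rw [Nat.card_zpowers, ho, pow_one])
  obtain ⟨Q, hQ⟩ := hpg.exists_le_sylow
  obtain ⟨g, hg⟩ := MulAction.exists_smul_eq ↥(threeJ3 F ω) Q PS
  have hgu : g * u * g⁻¹ ∈ Subgroup.closure (gens '' {a | a < 4}) := by
    have h2 : ((g • Q : Sylow 2 ↥(threeJ3 F ω)) : Subgroup ↥(threeJ3 F ω)) =
        Subgroup.closure (gens '' {a | a < 4}) := by rw [hg]; rfl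
    rw [Sylow.coe_subgroup_smul] at h2
    rw [← h2]
    have h3 : MulAut.conj g • u ∈ MulAut.conj g • (Q : Subgroup ↥(threeJ3 F ω)) :=
      Subgroup.smul_mem_pointwise_smul u _ _ (hQ (Subgroup.mem_zpowers u))
    exact h3
  obtain ⟨i, hi, hie⟩ := hmem _ hgu
  have hi2 : ℓ i * ℓ i = 1 := by
    rw [← hie]
    have : g * u * g⁻¹ * (g * u * g⁻¹) = g * (u ^ 2) * g⁻¹ := by
      rw [sq]
      simp only [mul_assoc, inv_mul_cancel_left]
    rw [this, hu2]
    group
  have hi1 : ℓ i ≠ 1 := by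
    rw [← hie]
    intro h
    apply hu
    have : u = g⁻¹ * (g * u * g⁻¹) * g := by group
    rw [this, h]
    group
  rcases c_Pinv i hi with h | h | ⟨hz, h⟩
  · subst h
    exact absurd h0 hi1
  · have hl : ∀ b ∈ LPL.getD i [] ++ LPL.getD i [], b < 4 := by
      intro b hb
      simp only [List.mem_append, or_self] at hb
      exact hL i hi b hb
    have h3 := chkL_of_one hX hI _ hl (by rw [wval_append]; exact hi2)
    rw [h] at h3
    exact absurd h3 (by simp)
  · have h3 := conj_word_eq hX hI _ wt _ hz wt4 (hL i hi) h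
    refine ⟨g⁻¹ * wval γ (zLL.getD i []), ?_⟩
    have h4 : g * u * g⁻¹ = wval γ (zLL.getD i []) * tE γ * (wval γ (zLL.getD i []))⁻¹ := by
      rw [hie]
      exact h3.symm
    have h5 : u = g⁻¹ * (g * u * g⁻¹) * g := by group
    rw [h5, h4]
    group

include hX hI hVA hVB in
/-- The words that are trivial in the simple group. -/
theorem walk_small (w : List ℕ) (hw : ∀ a ∈ w, a < 6) (h : piJ (wval (gE γ) w) = 1) :
    walk U w 0 < 3 := by
  have hc : wval (gE γ) w ∈ Subgroup.center ↥(threeJ3 F ω) := (QuotientGroup.eq_one_iff _).mp h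
  obtain ⟨k, hk, hk0, hs⟩ := central_scalar hX hI _ hc
  obtain ⟨h1, h2⟩ := word_U hX hI hVA hVB w hw 0 (by norm_num)
  rw [hs, Matrix.smul_mulVec, Matrix.one_mulVec] at h2
  have hp0 : toV S.R.φ 9 (pt 0) = Pi.single 0 1 := base_vec S
  interval_cases k
  · exact absurd rfl hk0
  · rw [S.R.h1, one_smul] at h2
    have := hP_inj hX hI 0 (by norm_num) _ h1 h2
    omega
  · have h3 : toV S.R.φ 9 (pt 1) = S.R.φ 2 • toV S.R.φ 9 (pt 0) := by
      have h4 := c_bs1 0 (by norm_num)
      have e : bs1L.getD 0 0 = 1 := rfl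
      rw [e] at h4
      rw [hp0]
      exact toV_scal (S := S) 2 (by norm_num) 0 _ h4.2
    rw [← h3] at h2
    have := hP_inj hX hI 1 (by norm_num) _ h1 h2
    omega
  · have h3 : toV S.R.φ 9 (pt 2) = S.R.φ 3 • toV S.R.φ 9 (pt 0) := by
      have h4 := c_bs2 0 (by norm_num)
      have e : bs2L.getD 0 0 = 2 := rfl
      rw [e] at h4
      rw [hp0]
      exact toV_scal (S := S) 3 (by norm_num) 0 _ h4.2
    rw [← h3] at h2
    have := hP_inj hX hI 2 (by norm_num) _ h1 h2
    omega

include hX hI in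
/-- The pair generates. -/
theorem hclo2 : Subgroup.closure ({aE γ, tE γ} : Set ↥(threeJ3 F ω)) = ⊤ := by
  set K := Subgroup.closure ({aE γ, tE γ} : Set ↥(threeJ3 F ω)) with hK
  have ha : wval γ wa ∈ K := Subgroup.subset_closure (by simp [aE])
  have ht : wval γ wt ∈ K := Subgroup.subset_closure (by simp [tE])
  have hsym : ∀ s, wval γ (symW s) ∈ K := by
    intro s
    match s with
    | 0 => exact ha
    | 1 =>
      show wval γ (invW wa) ∈ K
      rw [wval_invW4 hI wa wa4]
      exact K.inv_mem ha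
    | n + 2 => exact ht
  have hsub : ∀ sw, wval γ (subS sw) ∈ K := by
    intro sw
    induction sw with
    | nil => exact K.one_mem
    | cons s sw ih =>
      have e : subS (s :: sw) = symW s ++ subS sw := by simp [subS]
      rw [e, wval_append]
      exact K.mul_mem (hsym s) ih
  obtain ⟨h1, h2, h3, h4⟩ := c_gen
  have h2' := heqE hX hI _ h1 h2
  have h4' := heqE hX hI _ h3 h4
  rw [wval_append, wval_cons, wval_nil, mul_one, show γ 2 = (γ 0)⁻¹ from hI 0 (by norm_num)] at h2'
  rw [wval_append, wval_cons, wval_nil, mul_one, show γ 3 = (γ 1)⁻¹ from hI 1 (by norm_num)] at h4'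
  have g0 : γ 0 ∈ K := by
    rw [← mul_inv_eq_one.mp h2']
    exact hsub _
  have g1 : γ 1 ∈ K := by
    rw [← mul_inv_eq_one.mp h4']
    exact hsub _
  rw [eq_top_iff, ← hclosure hX hI, Subgroup.closure_le]
  rintro _ ⟨a, ha', rfl⟩
  have ha'' : a < 4 := ha'
  interval_cases a
  · exact g0
  · exact g1
  · rw [SetLike.mem_coe, show γ 2 = (γ 0)⁻¹ from hI 0 (by norm_num)]
    exact K.inv_mem g0
  · rw [SetLike.mem_coe, show γ 3 = (γ 1)⁻¹ from hI 1 (by norm_num)]
    exact K.inv_mem g1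

include hX hI in
/-- The pair generates the simple group. -/
theorem hcloJ : Subgroup.closure ({piJ (aE γ), piJ (tE γ)} : Set (J3 F ω)) = ⊤ := by
  have h1 := congrArg (Subgroup.map (piJ (F := F) (ω := ω))) (hclo2 (S := S) (γ := γ) hX hI)
  rw [MonoidHom.map_closure, Set.image_pair] at h1
  rw [h1, ← MonoidHom.range_eq_map, MonoidHom.range_eq_top]
  exact QuotientGroup.mk'_surjective _

include hX hI hVA hVB hS in
/-- An automorphism fixing the element of order 19 is inner. -/
theorem inner_of_fix [Finite ↥(threeJ3 F ω)] (hcardH : Nat.card ↥(threeJ3 F ω) = 150698880)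
    (hcc : Nat.card ↥(Subgroup.center ↥(threeJ3 F ω)) = 3)
    (ψ : MulAut (J3 F ω)) (hψ : ψ (piJ (aE γ)) = piJ (aE γ)) : ψ ∈ Cfsg.Inn (J3 F ω) := by
  classical
  set x := piJ (aE γ) with hx
  set y := piJ (tE γ) with hy
  have hy2 : y ^ 2 = 1 := by
    have h1 := central_of_chk hX hI _ c_t2.2 c_t2.1
    have h2 : piJ (wval γ (wt ++ wt)) = 1 := (QuotientGroup.eq_one_iff _).mpr h1
    rw [wval_append, map_mul] at h2
    rw [sq]
    exact h2
  have hy1 : y ≠ 1 := by
    intro h
    have h1 : piJ (wval (gE γ) wt) = 1 := by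
      rw [wval_gE wt wt4]
      exact h
    have h2 := walk_small hX hI hVA hVB wt (fun a ha => by have := wt4 a ha; omega) h1
    have h3 : walk U wt 0 = walk V wt 0 := by decide +kernel
    have h4 := c_a.2.2.2.2
    omega
  -- the image of the involution
  set u := ψ y with hu
  have hu2 : u ^ 2 = 1 := by
    rw [hu, ← map_pow, hy2, map_one]
  have hu1 : u ≠ 1 := by
    intro h
    exact hy1 (ψ.injective (h.trans (map_one ψ).symm))
  obtain ⟨u0, hu0⟩ := QuotientGroup.mk'_surjective (Subgroup.center ↥(threeJ3 F ω)) u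
  have hu0' : piJ u0 = u := hu0
  have hz : u0 ^ 2 ∈ Subgroup.center ↥(threeJ3 F ω) := by
    apply (QuotientGroup.eq_one_iff _).mp
    show piJ (u0 ^ 2) = 1
    rw [map_pow, hu0', hu2]
  have h3 : (u0 ^ 3) ^ 2 = 1 := by
    have h4 : (⟨u0 ^ 2, hz⟩ : ↥(Subgroup.center ↥(threeJ3 F ω))) ^ 3 = 1 := by
      have h40 := pow_card_eq_one' (x := (⟨u0 ^ 2, hz⟩ : ↥(Subgroup.center ↥(threeJ3 F ω))))
      rwa [hcc] at h40
    have h5 := congrArg Subtype.val h4
    have h6 : (u0 ^ 2) ^ 3 = 1 := h5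
    rw [← pow_mul] at h6 ⊢
    exact h6
  have hpi3 : piJ (u0 ^ 3) = u := by
    rw [map_pow, hu0', pow_succ, hu2, one_mul]
  have h31 : u0 ^ 3 ≠ 1 := by
    intro h
    rw [h, map_one] at hpi3
    exact hu1 hpi3.symm
  obtain ⟨h, hh⟩ := invol_conj (γ := γ) hX hI hcardH _ h3 h31
  obtain ⟨k, _, hk, hkj⟩ := class_mem hX hI hVA hVB hS hcardH h
  rw [← hh] at hk
  set i := ij k / 2048 with hi
  set j := ij k % 2048 with hj
  set c := x ^ i with hc
  set r := piJ (rE γ j) with hr
  have hue : u = c * r * c⁻¹ := by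
    rw [← hpi3, hk, eE, map_mul, map_mul, map_inv, map_pow]
  -- the relators
  have hrel : ∀ R ∈ relB, wordVal x r R = 1 := by
    intro R hR
    obtain ⟨h1, h2⟩ := c_rels R hR
    have h4 : wordVal x y R = 1 := by
      have h5 := central_of_chk hX hI _ h1 h2
      have h6 : piJ (wval γ (subX R)) = 1 := (QuotientGroup.eq_one_iff _).mpr h5
      rw [wval_subX, map_wordVal] at h6
      exact h6
    have h5 : wordVal x u R = 1 := by
      have h6 := map_wordVal ψ.toMonoidHom x y R
      simp only [MulEquiv.coe_toMonoidHom] at h6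
      rw [h4, map_one, hψ] at h6
      exact h6.symm
    have h6 := map_wordVal (MulAut.conj c⁻¹).toMonoidHom x u R
    rw [h5, map_one] at h6
    have e1 : c⁻¹ * x * c⁻¹⁻¹ = x := by
      have : Commute x c := (Commute.refl x).pow_right i
      rw [inv_inv, mul_assoc, this.eq, inv_mul_cancel_left]
    have e2 : c⁻¹ * u * c⁻¹⁻¹ = r := by
      rw [hue]
      group
    have e1' : (MulAut.conj c⁻¹).toMonoidHom x = x := e1
    have e2' : (MulAut.conj c⁻¹).toMonoidHom u = r := e2
    rw [e1', e2'] at h6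
    exact h6.symm
  have hj0 : j = 0 := by
    have h1 := of_allI c_hR_all j (Nat.zero_le _) (by simpa using hkj)
    simp only [hRF, Bool.or_eq_true, List.any_eq_true] at h1
    rcases h1 with h1 | ⟨R, hR, h1⟩
    · exact Nat.eq_of_beq_eq_true h1
    · exfalso
      have h2 := hrel R hR
      have h3 : piJ (wval (gE γ) (subW j R)) = 1 := by
        rw [wval_subW hI, map_wordVal]
        exact h2
      have h4 := walk_small hX hI hVA hVB _ (subW_lt j R) h3
      have h5 := Nat.le_of_ble_eq_true h1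
      omega
  have hr0 : r = y := by
    rw [hr, hj0, hy, rE, c_rep0]
    simp
  have hfin : (MulAut.conj c⁻¹ * ψ) = 1 := by
    apply eq_one_of_fix_gens x y (hcloJ hX hI)
    · rw [MulAut.mul_apply, hψ, MulAut.conj_apply, inv_inv]
      have : Commute x c := (Commute.refl x).pow_right i
      rw [mul_assoc, this.eq, inv_mul_cancel_left]
    · rw [MulAut.mul_apply, ← hu, hue, hr0, MulAut.conj_apply]
      group
  refine ⟨c, ?_⟩
  have h5 : ψ = (MulAut.conj c⁻¹)⁻¹ := eq_inv_of_mul_eq_one_right hfin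
  rw [h5, map_inv, inv_inv]

end letters2

end main

end Cfsg.Agent.Lib.KnownSimple.J3Lab.Ot
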