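import Cfsg.Agent.Lib.KnownSimple.J3Lab.OutD

/-! Checks for the automorphisms of the third Janko group: signatures. -/

set_option autoImplicit false
set_option maxRecDepth 100000

namespace Cfsg.Agent.Lib.KnownSimple.J3Lab.Ot

open Cfsg.Agent.Lib.KnownSimple.Lab Cfsg.Agent.Lib.KnownSimple.LabField
open Cfsg.Agent.Lib.KnownSimple.LabVec Cfsg.Agent.Lib.KnownSimple.LabChev Cfsg.Agent.Lib.KnownSimple.LabPack
open Cfsg.Agent.Lib.KnownSimple.LabLevels Cfsg.Agent.Lib.KnownSimple.LabJ3

theorem hSF_c3 : allI hSF 12000 4000 = true := by decide +kernel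
theorem hSF_c4 : allI hSF 16000 4000 = true := by decide +kernel
theorem hSF_c5 : allI hSF 20000 4000 = true := by decide +kernel
theorem hSF_c6 : allI hSF 24000 2163 = true := by decide +kernel

end Cfsg.Agent.Lib.KnownSimple.J3Lab.Ot
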