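import Cfsg.Agent.Lib.KnownSimple.J3Lab.OutF
import Cfsg.Agent.Lib.KnownSimple.J3Lab.OutC0
import Cfsg.Agent.Lib.KnownSimple.J3Lab.OutS0
import Cfsg.Agent.Lib.KnownSimple.J3Lab.OutS1

/-! The outer automorphism group of the third Janko group: the conclusion. -/

set_option autoImplicit false
set_option maxRecDepth 100000

namespace Cfsg.Agent.Lib.KnownSimple.J3Lab.Ot

open Cfsg.Agent.Lib.KnownSimple.Lab Cfsg.Agent.Lib.KnownSimple.LabField
open Cfsg.Agent.Lib.KnownSimple.LabVec Cfsg.Agent.Lib.KnownSimple.LabChev Cfsg.Agent.Lib.KnownSimple.LabPack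
open Cfsg.Agent.Lib.KnownSimple.LabLevels Cfsg.Agent.Lib.KnownSimple.LabJ3

theorem hVA_u0 : ∀ i, i < 20000 → hVAf i = true :=
  allI_join allI_start hVA_c0 rfl
theorem hVA_u1 : ∀ i, i < 40000 → hVAf i = true :=
  allI_join hVA_u0 hVA_c1 rfl
theorem hVA_u2 : ∀ i, i < 60000 → hVAf i = true :=
  allI_join hVA_u1 hVA_c2 rfl
theorem hVA_u3 : ∀ i, i < 69768 → hVAf i = true :=
  allI_join hVA_u2 hVA_c3 rfl
theorem hVA : ∀ i, i < 69768 → hVAf i = true := hVA_u3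
theorem hVB_u0 : ∀ i, i < 30000 → hVBf i = true :=
  allI_join allI_start hVB_c0 rfl
theorem hVB_u1 : ∀ i, i < 60000 → hVBf i = true :=
  allI_join hVB_u0 hVB_c1 rfl
theorem hVB_u2 : ∀ i, i < 69768 → hVBf i = true :=
  allI_join hVB_u1 hVB_c2 rfl
theorem hVB : ∀ i, i < 69768 → hVBf i = true := hVB_u2
theorem hSF_u0 : ∀ i, i < 4000 → hSF i = true :=
  allI_join allI_start hSF_c0 rfl
theorem hSF_u1 : ∀ i, i < 8000 → hSF i = true :=
  allI_join hSF_u0 hSF_c1 rfl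
theorem hSF_u2 : ∀ i, i < 12000 → hSF i = true :=
  allI_join hSF_u1 hSF_c2 rfl
theorem hSF_u3 : ∀ i, i < 16000 → hSF i = true :=
  allI_join hSF_u2 hSF_c3 rfl
theorem hSF_u4 : ∀ i, i < 20000 → hSF i = true :=
  allI_join hSF_u3 hSF_c4 rfl
theorem hSF_u5 : ∀ i, i < 24000 → hSF i = true :=
  allI_join hSF_u4 hSF_c5 rfl
theorem hSF_u6 : ∀ i, i < 26163 → hSF i = true :=
  allI_join hSF_u5 hSF_c6 rfl
theorem hSF_all : ∀ i, i < 26163 → hSF i = true := hSF_u6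

/-- The outer automorphism group of the third Janko group. -/
theorem result {F : Type*} [Field F] [Fintype F] (hF : Fintype.card F = 4) (ω : F) (hω : ω ^ 2 + ω + 1 = 0) :
    Nat.card (Cfsg.Out (Cfsg.Spor.J3 F ω)) = 2 := by
  refine out_result hF ω hω (fun i hi => ?_) (fun i hi => ?_) hSF_all
  · exact Nat.eq_of_beq_eq_true (hVA i hi)
  · have h := hVB i hi
    simp only [hVBf, Bool.and_eq_true] at h
    exact ⟨Nat.le_of_ble_eq_true h.1, Nat.eq_of_beq_eq_true h.2⟩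

end Cfsg.Agent.Lib.KnownSimple.J3Lab.Ot
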