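import Cfsg.Agent.Lib.KnownSimple.J3Lab.RepL0

/-! The levels of the order. -/

set_option autoImplicit false
set_option maxRecDepth 100000

namespace Cfsg.Agent.Lib.KnownSimple.J3Lab

open Cfsg.Agent.Lib.KnownSimple.Lab Cfsg.Agent.Lib.KnownSimple.LabLevels Cfsg.Agent.Lib.KnownSimple.LabPack

theorem hTr_c5 : allI hTrf 50000 10000 = true := by decide +kernel
theorem hTr_c6 : allI hTrf 60000 9768 = true := by decide +kernel

end Cfsg.Agent.Lib.KnownSimple.J3Lab
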