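import Cfsg.Agent.Lib.KnownSimple.J3Lab.RepLT0
import Cfsg.Agent.Lib.KnownSimple.J3Lab.RepLT1
import Cfsg.Agent.Lib.KnownSimple.J3Lab.RepLT2

/-! The levels of the order. -/

set_option autoImplicit false
set_option maxRecDepth 100000

namespace Cfsg.Agent.Lib.KnownSimple.J3Lab

open Cfsg.Agent.Lib.KnownSimple.Lab Cfsg.Agent.Lib.KnownSimple.LabLevels Cfsg.Agent.Lib.KnownSimple.LabPack

theorem hTr_u0 : ∀ i, i < 10000 → hTrf i = true :=
  allI_join allI_start hTr_c0 rfl
theorem hTr_u1 : ∀ i, i < 20000 → hTrf i = true :=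
  allI_join hTr_u0 hTr_c1 rfl
theorem hTr_u2 : ∀ i, i < 30000 → hTrf i = true :=
  allI_join hTr_u1 hTr_c2 rfl
theorem hTr_u3 : ∀ i, i < 40000 → hTrf i = true :=
  allI_join hTr_u2 hTr_c3 rfl
theorem hTr_u4 : ∀ i, i < 50000 → hTrf i = true :=
  allI_join hTr_u3 hTr_c4 rfl
theorem hTr_u5 : ∀ i, i < 60000 → hTrf i = true :=
  allI_join hTr_u4 hTr_c5 rfl
theorem hTr_u6 : ∀ i, i < 69768 → hTrf i = true :=
  allI_join hTr_u5 hTr_c6 rfl
theorem hTr : ∀ i, i < 69768 → hTrf i = true := hTr_u6

theorem incr_rng (s n : ℕ) : incr (List.range' s n) = true := by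
  induction n generalizing s with
  | zero => rfl
  | succ n ih =>
    cases n with
    | zero => rfl
    | succ m =>
      have h := ih (s + 1)
      rw [List.range'_succ] at h
      rw [List.range'_succ, List.range'_succ]
      simp only [incr, Bool.and_eq_true, Nat.blt_eq]
      exact ⟨by omega, h⟩

theorem c_lvFix : LvD.all (fun l' => l'.2.all fun t => Nat.beq (walk V t 0) 0) = true := by decide +kernel

theorem c_lvRest : levelsOK V 69768 4 LvD = true := by decide +kernel

theorem c_levels : levelsOK V 69768 4 Lv = true := by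
  have h0 : ∀ i ∈ List.range 69768, walk V (treeW 40 i) 0 = i ∧ ∀ a ∈ treeW 40 i, a < 4 := by
    intro i hi
    have h := hTr i (List.mem_range.mp hi)
    simp only [hTrf, Bool.and_eq_true, List.all_eq_true] at h
    exact ⟨Nat.eq_of_beq_eq_true h.1, fun a ha => Nat.le_of_ble_eq_true (h.2 a ha)⟩
  have e : ((List.range 69768).map (treeW 40)).map (fun t => walk V t 0) = List.range 69768 := by
    rw [List.map_map]
    conv_rhs => rw [← List.map_id (List.range 69768)]
    apply List.map_congr_left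
    intro i hi
    exact (h0 i hi).1
  simp only [Lv, levelsOK, Bool.and_eq_true]
  refine ⟨⟨⟨⟨by decide, ?_⟩, ?_⟩, c_lvFix⟩, c_lvRest⟩
  · rw [List.all_eq_true]
    intro t ht
    obtain ⟨i, hi, rfl⟩ := List.mem_map.mp ht
    rw [List.all_eq_true]
    intro a ha
    exact Nat.ble_eq_true_of_le ((h0 i hi).2 a ha)
  · rw [e, List.range_eq_range']
    exact incr_rng _ _

theorem c_Lv : (Lv.map fun l => l.2.length).prod = 150698880 := by decide +kernel

end Cfsg.Agent.Lib.KnownSimple.J3Lab
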