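import Cfsg.Agent.Lib.KnownSimple.J3Lab.RepD

/-! The action of a letter on the points. -/

set_option autoImplicit false
set_option maxRecDepth 100000

namespace Cfsg.Agent.Lib.KnownSimple.J3Lab

open Cfsg.Agent.Lib.KnownSimple.Lab Cfsg.Agent.Lib.KnownSimple.LabPack

/-- A check on the points. -/
def hVa0f (i : ℕ) : Bool := Nat.blt (V 0 i) 69768 && Nat.beq (mvP 2 4 (cols 0) (ptc i) 0) (ptc (V 0 i))

theorem hVa0_c0 : allI hVa0f 0 10000 = true := by decide +kernel
theorem hVa0_u0 : ∀ i, i < 10000 → hVa0f i = true :=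
  allI_join allI_start hVa0_c0 rfl
theorem hVa0_c1 : allI hVa0f 10000 10000 = true := by decide +kernel
theorem hVa0_u1 : ∀ i, i < 20000 → hVa0f i = true :=
  allI_join hVa0_u0 hVa0_c1 rfl
theorem hVa0_c2 : allI hVa0f 20000 10000 = true := by decide +kernel
theorem hVa0_u2 : ∀ i, i < 30000 → hVa0f i = true :=
  allI_join hVa0_u1 hVa0_c2 rfl
theorem hVa0_c3 : allI hVa0f 30000 10000 = true := by decide +kernel
theorem hVa0_u3 : ∀ i, i < 40000 → hVa0f i = true :=
  allI_join hVa0_u2 hVa0_c3 rfl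
theorem hVa0_c4 : allI hVa0f 40000 10000 = true := by decide +kernel
theorem hVa0_u4 : ∀ i, i < 50000 → hVa0f i = true :=
  allI_join hVa0_u3 hVa0_c4 rfl
theorem hVa0_c5 : allI hVa0f 50000 10000 = true := by decide +kernel
theorem hVa0_u5 : ∀ i, i < 60000 → hVa0f i = true :=
  allI_join hVa0_u4 hVa0_c5 rfl
theorem hVa0_c6 : allI hVa0f 60000 9768 = true := by decide +kernel
theorem hVa0_u6 : ∀ i, i < 69768 → hVa0f i = true :=
  allI_join hVa0_u5 hVa0_c6 rfl
theorem hVa0 : ∀ i, i < 69768 → hVa0f i = true := hVa0_u6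

end Cfsg.Agent.Lib.KnownSimple.J3Lab
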