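import Cfsg.Agent.Lib.KnownSimple.J3Lab.RepD

/-! The inverse letters, and the points. -/

set_option autoImplicit false
set_option maxRecDepth 100000

namespace Cfsg.Agent.Lib.KnownSimple.J3Lab

open Cfsg.Agent.Lib.KnownSimple.Lab Cfsg.Agent.Lib.KnownSimple.LabPack

/-- A check on the points. -/
def hVi0f (i : ℕ) : Bool := Nat.blt (V 2 i) 69768 && Nat.beq (V 0 (V 2 i)) i

theorem hVi0_c0 : allI hVi0f 0 20000 = true := by decide +kernel
theorem hVi0_u0 : ∀ i, i < 20000 → hVi0f i = true :=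
  allI_join allI_start hVi0_c0 rfl
theorem hVi0_c1 : allI hVi0f 20000 20000 = true := by decide +kernel
theorem hVi0_u1 : ∀ i, i < 40000 → hVi0f i = true :=
  allI_join hVi0_u0 hVi0_c1 rfl
theorem hVi0_c2 : allI hVi0f 40000 20000 = true := by decide +kernel
theorem hVi0_u2 : ∀ i, i < 60000 → hVi0f i = true :=
  allI_join hVi0_u1 hVi0_c2 rfl
theorem hVi0_c3 : allI hVi0f 60000 9768 = true := by decide +kernel
theorem hVi0_u3 : ∀ i, i < 69768 → hVi0f i = true :=
  allI_join hVi0_u2 hVi0_c3 rfl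
theorem hVi0 : ∀ i, i < 69768 → hVi0f i = true := hVi0_u3

/-- A check on the points. -/
def hVi1f (i : ℕ) : Bool := Nat.blt (V 3 i) 69768 && Nat.beq (V 1 (V 3 i)) i

theorem hVi1_c0 : allI hVi1f 0 20000 = true := by decide +kernel
theorem hVi1_u0 : ∀ i, i < 20000 → hVi1f i = true :=
  allI_join allI_start hVi1_c0 rfl
theorem hVi1_c1 : allI hVi1f 20000 20000 = true := by decide +kernel
theorem hVi1_u1 : ∀ i, i < 40000 → hVi1f i = true :=
  allI_join hVi1_u0 hVi1_c1 rfl
theorem hVi1_c2 : allI hVi1f 40000 20000 = true := by decide +kernel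
theorem hVi1_u2 : ∀ i, i < 60000 → hVi1f i = true :=
  allI_join hVi1_u1 hVi1_c2 rfl
theorem hVi1_c3 : allI hVi1f 60000 9768 = true := by decide +kernel
theorem hVi1_u3 : ∀ i, i < 69768 → hVi1f i = true :=
  allI_join hVi1_u2 hVi1_c3 rfl
theorem hVi1 : ∀ i, i < 69768 → hVi1f i = true := hVi1_u3

/-- The decoding of a point. -/
def enc : List ℕ → ℕ
  | [] => 0
  | a :: l => a + 4 * enc l

/-- A check on the points. -/
def hEncf (i : ℕ) : Bool := Nat.beq (enc (pt i)) (ptc i) && (pt i).all (fun b => Nat.blt b 4)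

theorem hEnc_c0 : allI hEncf 0 20000 = true := by decide +kernel
theorem hEnc_u0 : ∀ i, i < 20000 → hEncf i = true :=
  allI_join allI_start hEnc_c0 rfl
theorem hEnc_c1 : allI hEncf 20000 20000 = true := by decide +kernel
theorem hEnc_u1 : ∀ i, i < 40000 → hEncf i = true :=
  allI_join hEnc_u0 hEnc_c1 rfl
theorem hEnc_c2 : allI hEncf 40000 20000 = true := by decide +kernel
theorem hEnc_u2 : ∀ i, i < 60000 → hEncf i = true :=
  allI_join hEnc_u1 hEnc_c2 rfl
theorem hEnc_c3 : allI hEncf 60000 9768 = true := by decide +kernel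
theorem hEnc_u3 : ∀ i, i < 69768 → hEncf i = true :=
  allI_join hEnc_u2 hEnc_c3 rfl
theorem hEnc : ∀ i, i < 69768 → hEncf i = true := hEnc_u3

/-- A check on the points. -/
def hIncf (i : ℕ) : Bool := Nat.beq i 69767 || Nat.blt (ptc i) (ptc (i + 1))

theorem hInc_c0 : allI hIncf 0 30000 = true := by decide +kernel
theorem hInc_u0 : ∀ i, i < 30000 → hIncf i = true :=
  allI_join allI_start hInc_c0 rfl
theorem hInc_c1 : allI hIncf 30000 30000 = true := by decide +kernel
theorem hInc_u1 : ∀ i, i < 60000 → hIncf i = true :=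
  allI_join hInc_u0 hInc_c1 rfl
theorem hInc_c2 : allI hIncf 60000 9768 = true := by decide +kernel
theorem hInc_u2 : ∀ i, i < 69768 → hIncf i = true :=
  allI_join hInc_u1 hInc_c2 rfl
theorem hInc : ∀ i, i < 69768 → hIncf i = true := hInc_u2

end Cfsg.Agent.Lib.KnownSimple.J3Lab
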