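-- Generated: the letters of the third Janko group.
import Cfsg.Agent.Lib.KnownSimple.J3Lab.Final
import Cfsg.Agent.Lib.KnownSimple.J3Lab.RepV0
import Cfsg.Agent.Lib.KnownSimple.J3Lab.RepV1
import Cfsg.Agent.Lib.KnownSimple.J3Lab.RepW
import Cfsg.Agent.Lib.KnownSimple.J3Lab.RepL
import Cfsg.Agent.Lib.KnownSimple.LabFinal

set_option autoImplicit false
set_option maxRecDepth 100000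

namespace Cfsg.Agent.Lib.KnownSimple.J3Lab

open Cfsg.Agent.Lib.KnownSimple.Lab Cfsg.Agent.Lib.KnownSimple.LabField
open Cfsg.Agent.Lib.KnownSimple.LabVec Cfsg.Agent.Lib.KnownSimple.LabChev Cfsg.Agent.Lib.KnownSimple.LabPack Cfsg.Spor
open Cfsg.Agent.Lib.KnownSimple.LabLevels Cfsg.Agent.Lib.KnownSimple.LabJ3
open scoped Matrix

/-- All the generators, as sparse matrices. -/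
def SGL : List (List (List (ℕ × ℕ))) := [[[(0,1)],[(1,1)],[(2,1)],[(3,1)],[(4,1)],[(5,1)],[(6,1)],[(7,1)],[(8,1)]],
  [[(0,1)],[(1,2)],[(2,3)],[(3,1)],[(4,2)],[(5,3)],[(6,1)],[(7,2)],[(8,3)]],
  [[(0,1)],[(1,3)],[(2,2)],[(3,1)],[(4,3)],[(5,2)],[(6,1)],[(7,3)],[(8,2)]],
  [[(0,1)],[(1,1)],[(2,1)],[(3,2)],[(4,2)],[(5,2)],[(6,3)],[(7,3)],[(8,3)]],
  [[(0,1)],[(1,2)],[(2,3)],[(3,2)],[(4,3)],[(5,1)],[(6,3)],[(7,1)],[(8,2)]],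
  [[(0,1)],[(1,3)],[(2,2)],[(3,2)],[(4,1)],[(5,3)],[(6,3)],[(7,2)],[(8,1)]],
  [[(0,1)],[(1,1)],[(2,1)],[(3,3)],[(4,3)],[(5,3)],[(6,2)],[(7,2)],[(8,2)]],
  [[(0,1)],[(1,2)],[(2,3)],[(3,3)],[(4,1)],[(5,2)],[(6,2)],[(7,3)],[(8,1)]],
  [[(0,1)],[(1,3)],[(2,2)],[(3,3)],[(4,2)],[(5,1)],[(6,2)],[(7,1)],[(8,3)]],
  [[(0,1)],[(1,2)],[(2,2)],[(3,2)],[(4,3)],[(5,3)],[(6,2)],[(7,3)],[(8,3)]],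
  [[(0,2)],[(1,1)],[(2,2)],[(3,3)],[(4,2)],[(5,3)],[(6,3)],[(7,2)],[(8,3)]],
  [[(0,2)],[(1,2)],[(2,1)],[(3,3)],[(4,3)],[(5,2)],[(6,3)],[(7,3)],[(8,2)]],
  [[(0,2)],[(1,3)],[(2,3)],[(3,1)],[(4,2)],[(5,2)],[(6,2)],[(7,3)],[(8,3)]],
  [[(0,3)],[(1,2)],[(2,3)],[(3,2)],[(4,1)],[(5,2)],[(6,3)],[(7,2)],[(8,3)]],
  [[(0,3)],[(1,3)],[(2,2)],[(3,2)],[(4,2)],[(5,1)],[(6,3)],[(7,3)],[(8,2)]],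
  [[(0,2)],[(1,3)],[(2,3)],[(3,2)],[(4,3)],[(5,3)],[(6,1)],[(7,2)],[(8,2)]],
  [[(0,3)],[(1,2)],[(2,3)],[(3,3)],[(4,2)],[(5,3)],[(6,2)],[(7,1)],[(8,2)]],
  [[(0,3)],[(1,3)],[(2,2)],[(3,3)],[(4,3)],[(5,2)],[(6,2)],[(7,2)],[(8,1)]],
  [[(0,1)],[(1,1)],[(2,1)],[(3,1)],[(4,1)],[(5,1)],[(6,1)],[(7,1)],[(8,1)]],
  [[(2,1)],[(0,1)],[(1,1)],[(5,1)],[(3,1)],[(4,2)],[(8,1)],[(6,1)],[(7,3)]],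
  [[(1,1)],[(2,1)],[(0,1)],[(4,1)],[(5,3)],[(3,1)],[(7,1)],[(8,2)],[(6,1)]],
  [[(6,1)],[(7,1)],[(8,1)],[(0,1)],[(1,1)],[(2,1)],[(3,1)],[(4,3)],[(5,2)]],
  [[(8,1)],[(6,2)],[(7,1)],[(2,3)],[(0,1)],[(1,1)],[(5,1)],[(3,1)],[(4,1)]],
  [[(7,1)],[(8,1)],[(6,3)],[(1,2)],[(2,1)],[(0,1)],[(4,1)],[(5,1)],[(3,1)]],
  [[(3,1)],[(4,1)],[(5,1)],[(6,1)],[(7,2)],[(8,3)],[(0,1)],[(1,1)],[(2,1)]],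
  [[(5,1)],[(3,3)],[(4,1)],[(8,1)],[(6,1)],[(7,1)],[(2,2)],[(0,1)],[(1,1)]],
  [[(4,1)],[(5,1)],[(3,2)],[(7,1)],[(8,1)],[(6,1)],[(1,3)],[(2,1)],[(0,1)]],
  [],
  [[(0,1)],[(1,1)],[(2,1)],[(3,1)],[(4,1)],[(5,1)],[(6,1)],[(7,1)],[(8,1)]],
  [[(0,1)],[(2,1)],[(1,1)],[(6,1)],[(8,1)],[(7,1)],[(3,1)],[(5,1)],[(4,1)]],
  [[(0,1)],[(6,1)],[(3,1)],[(1,1)],[(7,1)],[(4,1)],[(2,1)],[(8,1)],[(5,1)]],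
  [[(0,1)],[(5,1)],[(7,1)],[(8,1)],[(1,1)],[(3,1)],[(4,1)],[(6,1)],[(2,1)]],
  [[(0,1)],[(4,1)],[(8,1)],[(5,1)],[(6,1)],[(1,1)],[(7,1)],[(2,1)],[(3,1)]],
  [[(0,1)],[(3,1)],[(6,1)],[(2,1)],[(5,1)],[(8,1)],[(1,1)],[(4,1)],[(7,1)]],
  [[(0,1)],[(8,1)],[(4,1)],[(7,1)],[(3,1)],[(2,1)],[(5,1)],[(1,1)],[(6,1)]],
  [[(0,1)],[(7,1)],[(5,1)],[(4,1)],[(2,1)],[(6,1)],[(8,1)],[(3,1)],[(1,1)]],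
  [],
  [[(0,1)],[(2,1),(3,1),(6,1)],[(1,1),(3,1),(6,1)],[(1,1),(2,1),(3,1)],[(4,1),(7,1),(8,1)],[(5,1),(7,1),(8,1)],[(1,1),(2,1),(6,1)],[(4,1),(5,1),(7,1)],[(4,1),(5,1),(8,1)]],
  [[(0,1)],[(1,1),(3,1),(6,1)],[(2,1),(3,1),(6,1)],[(1,1),(2,1),(6,1)],[(4,1),(5,1),(8,1)],[(4,1),(5,1),(7,1)],[(1,1),(2,1),(3,1)],[(5,1),(7,1),(8,1)],[(4,1),(7,1),(8,1)]],
  [[(0,1)],[(1,1),(2,1),(6,1)],[(1,1),(2,1),(3,1)],[(2,1),(3,1),(6,1)],[(4,1),(5,1),(7,1)],[(4,1),(7,1),(8,1)],[(1,1),(3,1),(6,1)],[(4,1),(5,1),(8,1)],[(5,1),(7,1),(8,1)]],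
  [[(0,1)],[(5,1),(7,1),(8,1)],[(4,1),(5,1),(7,1)],[(4,1),(5,1),(8,1)],[(2,1),(3,1),(6,1)],[(1,1),(2,1),(3,1)],[(4,1),(7,1),(8,1)],[(1,1),(2,1),(6,1)],[(1,1),(3,1),(6,1)]],
  [[(0,1)],[(4,1),(7,1),(8,1)],[(4,1),(5,1),(8,1)],[(5,1),(7,1),(8,1)],[(1,1),(2,1),(6,1)],[(2,1),(3,1),(6,1)],[(4,1),(5,1),(7,1)],[(1,1),(3,1),(6,1)],[(1,1),(2,1),(3,1)]],
  [[(0,1)],[(1,1),(2,1),(3,1)],[(1,1),(2,1),(6,1)],[(1,1),(3,1),(6,1)],[(5,1),(7,1),(8,1)],[(4,1),(5,1),(8,1)],[(2,1),(3,1),(6,1)],[(4,1),(7,1),(8,1)],[(4,1),(5,1),(7,1)]],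
  [[(0,1)],[(4,1),(5,1),(8,1)],[(4,1),(7,1),(8,1)],[(4,1),(5,1),(7,1)],[(1,1),(2,1),(3,1)],[(1,1),(3,1),(6,1)],[(5,1),(7,1),(8,1)],[(2,1),(3,1),(6,1)],[(1,1),(2,1),(6,1)]],
  [[(0,1)],[(4,1),(5,1),(7,1)],[(5,1),(7,1),(8,1)],[(4,1),(7,1),(8,1)],[(1,1),(3,1),(6,1)],[(1,1),(2,1),(6,1)],[(4,1),(5,1),(8,1)],[(1,1),(2,1),(3,1)],[(2,1),(3,1),(6,1)]]]

/-- All the generators, as sparse matrices. -/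
def SG (q : ℕ) : List (List (ℕ × ℕ)) := SGL.getD q []

/-- The words of the generators. -/
def TWL : List (List ℕ) := [[], [0, 1, 0, 1, 0, 1, 0, 1, 0, 1, 0, 1, 0, 1, 0, 1, 0, 1, 0, 1, 0, 1, 0, 1, 0, 1, 0, 1, 0, 1, 0, 1, 0, 1, 0, 1, 0, 1, 0, 1, 1, 2, 3, 2, 3, 3, 0, 3, 0, 1, 2, 3, 2, 3, 0, 3, 3], [0, 1, 0, 1, 0, 1, 0, 1, 0, 1, 0, 1, 0, 1, 0, 1, 0, 1, 0, 1, 1, 1, 2, 1, 0, 1, 0, 3, 2, 1, 2, 1, 1, 0, 1, 0, 3], [0, 1, 0, 1, 0, 1, 0, 1, 0, 1, 0, 1, 0, 1, 0, 1, 0, 1, 0, 1, 0, 1, 0, 1, 0, 1, 0, 1, 0, 1, 0, 1, 0, 1, 0, 1, 0, 1, 0, 1, 0, 3, 3, 3, 2, 3, 2, 3, 0, 3, 2, 3, 2, 1, 1, 1, 1, 1, 1], [0, 1, 0, 1, 0, 1, 0, 1, 0, 1, 0, 1, 0, 1, 0, 1, 0, 1, 0, 1, 0, 1, 0, 1, 0, 1, 0, 1, 0, 1, 0, 1, 0, 1, 0, 1, 0, 1, 0, 1, 3, 3, 0, 1, 2, 3,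 3, 3, 3, 2, 3, 3, 3, 2, 3, 3, 2, 1], [0, 1, 0, 1, 0, 1, 0, 1, 0, 1, 0, 1, 0, 1, 0, 1, 0, 1, 0, 1, 1, 0, 3, 0, 3, 3, 3, 2, 1, 0, 3, 3, 3, 0, 3, 3, 3, 2], [0, 1, 0, 1, 0, 1, 0, 1, 0, 1, 0, 1, 0, 1, 0, 1, 0, 1, 0, 1, 1, 1, 1, 1, 1, 1, 0, 1, 0, 1, 2, 1, 0, 1, 0, 1, 1, 1, 2], [0, 1, 0, 1, 0, 1, 0, 1, 0, 1, 0, 1, 0, 1, 0, 1, 0, 1, 0, 1, 0, 1, 0, 1, 0, 1, 0, 1, 0, 1, 0, 1, 0, 1, 0, 1, 0, 1, 0, 1, 0, 1, 1, 1, 2, 1, 1, 1, 2, 3, 0, 1, 1, 1, 2, 1, 2, 3], [0, 1, 0, 1, 0, 1, 0, 1, 0, 1, 0, 1, 0, 1, 0, 1, 0, 1, 0, 1, 3, 0, 1, 1, 0, 1, 1, 1, 0, 1, 1, 1, 1, 0, 3, 2, 1, 1], [0, 1, 0, 1, 0, 1, 0, 1, 0, 1, 0, 1, 0, 1, 0, 1, 0, 1, 0, 1, 2, 3, 3, 2, 1, 0, 1, 1, 2, 3, 2, 3, 3, 0, 3, 3, 3, 0], [0, 1, 0, 1, 0, 1, 0, 1, 0, 1, 0, 1, 0, 1, 0,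 1, 0, 1, 0, 1, 3, 2, 1, 1, 1, 0, 1, 2, 1, 1, 1, 2, 1, 2, 3, 3, 0, 1, 0], [0, 1, 0, 1, 0, 1, 0, 1, 0, 1, 0, 1, 0, 1, 0, 1, 0, 1, 0, 1, 3, 3, 0, 1, 0, 1, 0, 1, 0, 3, 0, 3, 0, 1, 2, 1], [0, 1, 0, 1, 0, 1, 0, 1, 0, 1, 0, 1, 0, 1, 0, 1, 0, 1, 0, 1, 0, 1, 0, 1, 0, 1, 0, 1, 0, 1, 0, 1, 0, 1, 0, 1, 0, 1, 0, 1, 1, 2, 1, 2, 1, 2, 1, 0, 1, 2, 3, 2, 1, 1, 1, 2, 3, 2, 1, 1], [2, 1, 2, 1, 0, 3, 3, 0, 3, 3, 2, 1, 1, 2, 1, 1, 2, 1], [0, 1, 0, 1, 0, 1, 0, 1, 0, 1, 0, 1, 0, 1, 0, 1, 0, 1, 0, 1, 0, 1, 0, 1, 0, 1, 0, 1, 0, 1, 0, 1, 0, 1, 0, 1, 0, 1, 0, 1, 3, 2, 3, 3, 3, 3, 0, 1, 1, 1, 1, 2, 1, 1, 1, 1, 0, 1], [1, 0, 1, 0, 3, 2, 1, 2, 1, 2, 3, 2, 3, 2, 3], [0, 1, 0, 1, 0, 1, 0, 1, 0, 1, 0, 1, 0, 1, 0, 1, 0, 1, 0, 1, 0, 1, 0, 1, 0, 1, 0,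 1, 0, 1, 0, 1, 0, 1, 0, 1, 0, 1, 0, 1, 2, 3, 3, 3, 2, 1, 1, 1, 1, 1, 0, 3, 2, 3, 2, 1, 0, 1], [0, 1, 0, 1, 0, 1, 0, 1, 0, 1, 0, 1, 0, 1, 0, 1, 0, 1, 0, 1, 1, 2, 1, 1, 2, 3, 2, 1, 1, 0, 3, 3, 3, 0, 3, 0, 3, 3, 0], [], [0, 1, 0, 1, 0, 1, 0, 1, 0, 1, 0, 1, 0, 1, 0, 1, 0, 1, 0, 1, 0, 1, 0, 1, 0, 1, 0, 1, 0, 1, 0, 1, 0, 1, 0, 1, 0, 1, 0, 1, 2, 3, 0, 3, 2, 1, 0, 1, 0, 1, 2, 3, 3, 0, 1, 2, 3], [0, 1, 0, 1, 0, 1, 0, 1, 0, 1, 0, 1, 0, 1, 0, 1, 0, 1, 0, 1, 1, 0, 3, 2, 1, 1, 0, 3, 2, 3, 2, 3, 0, 1, 2, 1, 0], [0, 1, 0, 1, 0, 1, 0, 1, 0, 1, 0, 1, 0, 1, 0, 1, 0, 1, 0, 1, 1, 0, 1, 2, 3, 2, 3, 2, 3, 3, 2, 1, 0, 1, 2, 3, 0, 1, 1], [0, 1, 0, 1, 0, 1, 0, 1, 0, 1, 0, 1, 0, 1, 0, 1, 0, 1, 0, 1, 2, 3, 0, 3, 2, 3, 0, 1, 2, 1, 0, 3, 2, 1, 0,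 1, 1], [0, 1, 2, 3, 0, 1, 2, 3, 3, 2, 1, 2, 3, 0, 3, 2], [0, 1, 0, 1, 0, 1, 0, 1, 0, 1, 0, 1, 0, 1, 0, 1, 0, 1, 0, 1, 0, 1, 0, 1, 0, 1, 0, 1, 0, 1, 0, 1, 0, 1, 0, 1, 0, 1, 0, 1, 3, 0, 1, 0, 3, 0, 3, 3, 0, 1, 1, 1, 1, 2, 1, 1, 1, 2, 3], [0, 1, 2, 1, 0, 3, 0, 1, 1, 0, 3, 2, 1, 0, 3, 2], [0, 1, 0, 1, 0, 1, 0, 1, 0, 1, 0, 1, 0, 1, 0, 1, 0, 1, 0, 1, 0, 1, 0, 1, 0, 1, 0, 1, 0, 1, 0, 1, 0, 1, 0, 1, 0, 1, 0, 1, 3, 3, 2, 3, 0, 1, 2, 3, 0, 3, 2, 1, 0, 1, 2, 1, 0], [], [], [0, 1, 0, 1, 0, 1, 0, 1, 0, 1, 0, 1, 0, 1, 0, 1, 0, 1, 0, 1, 0, 1, 0, 1, 0, 1, 0, 1, 0, 1, 0, 1, 0, 1, 0, 1, 0, 1, 0, 1, 0, 1, 1, 2, 3, 2, 1, 2, 1, 2, 3, 3, 2, 3, 0, 3, 3, 0, 1], [3, 2, 1, 2, 1, 2, 1, 0, 1, 0, 3, 3, 0, 3, 2, 1, 1], [0, 1, 0, 1, 0, 1, 0, 1, 0,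 1, 0, 1, 0, 1, 0, 1, 0, 1, 0, 1, 3, 2, 1, 1, 2, 3, 3, 0, 3, 2, 3, 0, 3, 3, 2, 1, 2, 1, 2], [0, 1, 0, 1, 0, 1, 0, 1, 0, 1, 0, 1, 0, 1, 0, 1, 0, 1, 0, 1, 0, 1, 0, 1, 0, 1, 0, 1, 0, 1, 0, 1, 0, 1, 0, 1, 0, 1, 0, 1, 0, 3, 0, 3, 0, 1, 1, 2, 1, 0, 1, 2, 1, 1, 0, 3, 3, 0, 1], [3, 3, 0, 1, 2, 1, 1, 2, 3, 2, 3, 0, 3, 0, 3, 0, 1], [2, 1, 0, 3, 0, 1, 0, 3, 2, 1, 1, 0, 1], [3, 2, 3, 3, 0, 1, 2, 3, 2, 1, 2, 3, 0], [], [0, 1, 2, 3, 0, 1, 2, 3, 2, 1, 0, 3, 0, 1, 2, 3, 0], [0, 1, 0, 1, 0, 1, 0, 1, 0, 1, 0, 1, 0, 1, 0, 1, 0, 1, 0, 1, 3, 2, 1, 1, 0, 1, 1, 1, 0, 1, 2, 3, 2, 1, 1, 1, 1, 1, 0], [0, 1, 0, 1, 0, 1, 0, 1, 0, 1, 0, 1, 0, 1, 0, 1, 0, 1, 0, 1, 0, 1, 0, 1, 0, 1, 0, 1, 0, 1, 0, 1, 0, 1, 0, 1, 0, 1, 0, 1, 1, 0, 1, 1, 2, 3, 2, 1,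 1, 1, 0, 1, 1, 0, 3, 0, 3, 3, 2], [0, 1, 0, 1, 0, 1, 0, 1, 0, 1, 0, 1, 0, 1, 0, 1, 0, 1, 0, 1, 0, 1, 0, 1, 0, 1, 0, 1, 0, 1, 0, 1, 0, 1, 0, 1, 0, 1, 0, 1, 3, 3, 3, 0, 3, 0, 3, 0, 3, 3, 2, 3, 2, 3, 0, 1, 1, 2, 1, 0], [1, 0, 1, 1, 0, 1, 1, 1, 1, 2, 1, 0, 3, 3, 2, 1, 2, 1, 1, 1, 0], [0, 1, 0, 1, 0, 1, 0, 1, 0, 1, 0, 1, 0, 1, 0, 1, 0, 1, 0, 1, 0, 1, 0, 1, 0, 1, 0, 1, 0, 1, 0, 1, 0, 1, 0, 1, 0, 1, 0, 1, 1, 1, 2, 3, 2, 3, 0, 3, 3, 3, 3, 2, 1, 2, 3, 3, 3, 0], [0, 1, 0, 1, 0, 1, 0, 1, 0, 1, 0, 1, 0, 1, 0, 1, 0, 1, 0, 1, 1, 1, 2, 3, 2, 3, 0, 1, 1, 2, 1, 2, 3, 2, 1, 1, 1, 0, 3, 0], [0, 1, 0, 1, 0, 1, 0, 1, 0, 1, 0, 1, 0, 1, 0, 1, 0, 1, 0, 1, 0, 1, 0, 1, 0, 1, 0, 1, 0, 1, 0, 1, 0, 1, 0, 1, 0, 1, 0, 1, 1, 2, 3, 3, 2, 1, 0, 1, 2,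 1, 1, 1, 2, 1, 0, 1, 1]]

/-- The words of the generators. -/
def TW (q : ℕ) : List ℕ := TWL.getD q []

/-- Balanced words for the letters. -/
def gwe (a : ℕ) : List ℕ := ([[0, 1, 1, 0, 1, 0, 1, 1, 0, 3, 3, 2, 3, 2, 3, 3, 2, 2], [1, 2, 2, 2, 3, 3, 3, 3, 3, 3, 3, 3, 3, 3, 3, 3, 1, 2, 1, 2, 1, 1, 2, 1, 1, 0, 1, 0, 3, 3, 0, 1, 1, 1, 1, 0, 3, 2, 3, 2, 1, 0, 1, 1, 0, 1, 0, 3, 0, 3, 2, 2, 1, 0, 1, 1, 0, 1, 0, 3, 0, 3, 2, 2]] : List (List ℕ)).getD a []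

/-- The scalar. -/
def wS : List ℕ := [0, 1, 0, 1, 0, 1, 0, 1, 0, 1, 0, 1, 0, 1, 0, 1, 0, 1, 0, 1]

/-- The element fixing the first coordinate vector only. -/
def wh : List ℕ := [1, 2, 3, 2, 1, 1, 1, 1, 2, 3, 0, 1, 2, 3, 0, 0, 0, 1, 1, 2, 3, 0, 0, 0, 1, 1, 2, 3, 0, 0, 0, 1, 1, 2, 3, 0, 0, 0, 1, 1, 2, 3, 0, 0, 0, 1, 1, 2, 3, 0, 0, 0, 1, 1, 3, 2, 1, 0, 3, 3, 3, 3, 0, 1, 0, 3]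

/-- Its matrix. -/
def Hc : List ℕ := [1, 0, 0, 0, 0, 0, 0, 0, 0, 0, 0, 2, 2, 0, 0, 3, 0, 0, 0, 3, 0, 2, 0, 0, 3, 0, 0, 0, 3, 2, 2, 0, 0, 0, 0, 0, 0, 0, 0, 0, 1, 0, 0, 2, 1, 0, 0, 0, 0, 0, 3, 0, 2, 1, 0, 3, 2, 0, 0, 0, 3, 0, 0, 0, 0, 0, 0, 1, 3, 0, 2, 0, 0, 0, 0, 0, 1, 3, 0, 0, 1]

/-- The almost inverse. -/
def Qc : List ℕ := [0, 0, 0, 0, 0, 0, 0, 0, 0, 0, 3, 0, 2, 0, 0, 1, 0, 0, 0, 0, 2, 1, 0, 0, 3, 0, 0, 0, 3, 1, 3, 0, 0, 3, 0, 0, 0, 0, 0, 0, 2, 2, 0, 0, 1, 0, 0, 0, 0, 3, 3, 0, 0, 0, 0, 1, 2, 2, 0, 0, 2, 0, 0, 0, 0, 0, 0, 0, 0, 0, 2, 2, 0, 0, 0, 0, 1, 0, 0, 3, 3]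

/-- Words to the coordinate vectors. -/
def wjL : List (List ℕ) := [[], [3, 2, 3, 0, 3, 3, 3, 3, 2, 1], [3, 2, 1, 2, 3, 3, 0, 1, 1, 1, 2, 1, 0], [3, 2, 1, 0, 1, 0, 1, 0, 3, 0, 1], [3, 3, 0, 3, 2, 3, 3, 0, 1, 1, 1], [1, 1, 1, 1, 2, 1, 0, 3, 2, 3], [2, 1, 2, 1, 1, 1, 1, 2, 3, 2], [1, 2, 3, 3, 0], [1, 0, 1, 1, 0, 1, 2, 3, 2, 3, 2, 1, 0]]

/-- Words to the coordinate vectors. -/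
def wj (j : ℕ) : List ℕ := wjL.getD j []

instance instOkQ : DecidablePred okQ := fun _ => inferInstanceAs (Decidable (_ ∧ _ ∧ _))

theorem c_used : ∀ j < USED.length, okQ (USED.getD j 0) ∧ (SLU.getD j []).length = 9 ∧ (SIU.getD j []).length = 9 ∧
    (SLU.getD j []).all (fun r => r.all fun p => Nat.blt p.1 9) = true ∧
    (SIU.getD j []).all (fun r => r.all fun p => Nat.blt p.1 9) = true ∧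
    (∀ i < 9, ∀ k < 9, entryS add4 ((SLU.getD j []).getD i []) k = genC (USED.getD j 0) (toF9 i) (toF9 k)) ∧
    (∀ k < 9, actS add4 mul4 (SLU.getD j []) (actS add4 mul4 (SIU.getD j []) (unitC 9 k)) = unitC 9 k) := by decide +kernel

theorem c_XA : ∀ a < 2, (∀ j ∈ LWU a, j < USED.length) ∧
    (∀ j < 9, wordS add4 mul4 SLU (LWU a) (unitC 9 j) = actS add4 mul4 (XA a) (unitC 9 j)) ∧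
    ((XA a).length = 9 ∧ ∀ row ∈ XA a, ∀ p ∈ row, p.1 < 9) ∧
    (cols a).length = 9 ∧ ∀ j < 9, ∀ c < 4, ∀ i < 9,
      dig 2 (nthL ((cols a).getD j []) c) i = mul4 c (entryS add4 ((XA a).getD i []) j) := by decide +kernel

theorem c_xor : ∀ x < 2 ^ 2, ∀ y < 2 ^ 2, add4 x y = x ^^^ y := by decide +kernel

theorem hVall : ∀ a < 2, ∀ i < 69768, V a i < 69768 ∧ mvP 2 4 (cols a) (ptc i) 0 = ptc (V a i) := by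
  intro a ha i hi
  have h : (Nat.blt (V a i) 69768 && Nat.beq (mvP 2 4 (cols a) (ptc i) 0) (ptc (V a i))) = true := by
    interval_cases a
    · exact hVa0 i hi
    · exact hVa1 i hi
  simp only [Bool.and_eq_true, Nat.blt_eq, Nat.beq_eq] at h
  exact h

theorem hVinv : ∀ a < 2, ∀ i < 69768, V (a + 2) i < 69768 ∧ V a (V (a + 2) i) = i := by
  intro a ha i hi
  have h : (Nat.blt (V (a + 2) i) 69768 && Nat.beq (V a (V (a + 2) i)) i) = true := by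
    interval_cases a
    · exact hVi0 i hi
    · exact hVi1 i hi
  simp only [Bool.and_eq_true, Nat.blt_eq, Nat.beq_eq] at h
  exact h

theorem c_bs : ∀ j < 9, bsL.getD j 0 < 69768 ∧ pt (bsL.getD j 0) = unitC 9 j := by decide +kernel

theorem c_bs1 : ∀ j < 9, bs1L.getD j 0 < 69768 ∧ pt (bs1L.getD j 0) = (unitC 9 j).map (mul4 2) := by decide +kernel

theorem c_bs2 : ∀ j < 9, bs2L.getD j 0 < 69768 ∧ pt (bs2L.getD j 0) = (unitC 9 j).map (mul4 3) := by decide +kernel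

/-- The check on a generator. -/
def TWprop (q : ℕ) : Prop := (∀ a ∈ TW q, a < 4) ∧ (SG q).length = 9 ∧
    (SG q).all (fun r => r.all fun p => Nat.blt p.1 9) = true ∧
    (∀ i < 9, ∀ k < 9, entryS add4 ((SG q).getD i []) k = genC q (toF9 i) (toF9 k)) ∧
    (∀ j < 9, pt (walk V (TW q) (bsL.getD j 0)) = actS add4 mul4 (SG q) (unitC 9 j))

instance (q : ℕ) : Decidable (TWprop q) :=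
  inferInstanceAs (Decidable ((∀ a ∈ TW q, a < 4) ∧ (SG q).length = 9 ∧
    (SG q).all (fun r => r.all fun p => Nat.blt p.1 9) = true ∧
    (∀ i < 9, ∀ k < 9, entryS add4 ((SG q).getD i []) k = genC q (toF9 i) (toF9 k)) ∧
    (∀ j < 9, pt (walk V (TW q) (bsL.getD j 0)) = actS add4 mul4 (SG q) (unitC 9 j))))

theorem c_TW' : ∀ q < 45, q ≠ 27 → q ≠ 36 → TWprop q := by decide +kernel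

theorem c_TW (q : ℕ) (hq : okQ q) : (∀ a ∈ TW q, a < 4) ∧ (SG q).length = 9 ∧
    (SG q).all (fun r => r.all fun p => Nat.blt p.1 9) = true ∧
    (∀ i < 9, ∀ k < 9, entryS add4 ((SG q).getD i []) k = genC q (toF9 i) (toF9 k)) ∧
    (∀ j < 9, pt (walk V (TW q) (bsL.getD j 0)) = actS add4 mul4 (SG q) (unitC 9 j)) :=
  c_TW' q hq.1 hq.2.1 hq.2.2

theorem c_gwe : (∀ a < 2, ∀ b ∈ gwe a, b < 2 * 2) ∧ (∀ a < 2, balanced 2 (gwe a) = true) ∧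
    (∀ a < 2, chkL bsL (gwe a ++ [a + 2]) = true) := by decide +kernel

theorem c_wS : (∀ a ∈ wS, a < 4) ∧ chkL bs1L wS = true := by decide +kernel

theorem c_wh : (∀ a ∈ wh, a < 4) ∧ walk V wh (bsL.getD 0 0) = bsL.getD 0 0 ∧
    ∀ j < 9, pt (walk V wh (bsL.getD j 0)) = colC 9 Hc j := by decide +kernel

theorem c_Q : ∀ i < 9, i ≠ 0 → ∀ k < 9, add4 ((LabMat.mulC add4 mul4 9 Qc Hc).getD (i * 9 + k) 0) (Qc.getD (i * 9 + k) 0) = if k = i then 1 else 0 := by decide +kernel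

theorem c_wj : ∀ j < 9, (∀ a ∈ wj j, a < 4) ∧ walk V (wj j) (bsL.getD 0 0) = bsL.getD j 0 := by decide +kernel

theorem c_enc : ∀ i < 69768, enc (pt i) = ptc i ∧ ∀ b ∈ pt i, b < 4 := by
  intro i hi
  have h := hEnc i hi
  simp only [hEncf, Bool.and_eq_true, List.all_eq_true] at h
  exact ⟨Nat.eq_of_beq_eq_true h.1, fun b hb => Nat.le_of_ble_eq_true (h.2 b hb)⟩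

theorem c_incr : ∀ i, i + 1 < 69768 → Nat.blt (ptc i) (ptc (i + 1)) = true := by
  intro i hi
  have h := hInc i (by omega)
  simp only [hIncf, Bool.or_eq_true] at h
  rcases h with h | h
  · have := Nat.eq_of_beq_eq_true h
    omega
  · exact h


end Cfsg.Agent.Lib.KnownSimple.J3Lab
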