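-- Generated: the letters of the third Janko group.
import Cfsg.Agent.Lib.KnownSimple.J3Lab.RepC

set_option autoImplicit false
set_option maxRecDepth 100000

namespace Cfsg.Agent.Lib.KnownSimple.J3Lab

open Cfsg.Agent.Lib.KnownSimple.Lab Cfsg.Agent.Lib.KnownSimple.LabField
open Cfsg.Agent.Lib.KnownSimple.LabVec Cfsg.Agent.Lib.KnownSimple.LabChev Cfsg.Agent.Lib.KnownSimple.LabPack Cfsg.Spor
open Cfsg.Agent.Lib.KnownSimple.LabLevels Cfsg.Agent.Lib.KnownSimple.LabJ3
open scoped Matrix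

namespace Rp

section main

variable {F : Type*} [Field F] {ω : F}

variable (S : R4 F ω)

theorem hPu (i : ℕ) : toV S.R.φ 9 (pt i) = unp S.R.φ 2 9 (ptc i) := by
  rw [unp_eq_toV]
  rfl

/-- The generators used, as elements of the group. -/
theorem exists_gU : ∃ g : ℕ → ↥(threeJ3 F ω), ∀ j < USED.length, chM (g j) = toMS S.R.φ add4 9 (SLU.getD j []) := by
  have h : ∀ j, ∃ x : ↥(threeJ3 F ω), j < USED.length → chM x = toMS S.R.φ add4 9 (SLU.getD j []) := by
    intro j
    by_cases hj : j < USED.length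
    · obtain ⟨h1, h2, h3, h4, h5, h6⟩ := c_used j hj
      obtain ⟨x, hx⟩ := exists_gen S (q := USED.getD j 0) h1 (SLU.getD j []) (SIU.getD j []) h2 h3 (fun r hr p hp => Nat.le_of_ble_eq_true (List.all_eq_true.mp (List.all_eq_true.mp h4 r hr) p hp)) (fun r hr p hp => Nat.le_of_ble_eq_true (List.all_eq_true.mp (List.all_eq_true.mp h5 r hr) p hp)) h6.1 h6.2
      exact ⟨x, fun _ => hx⟩
    · exact ⟨1, fun h => absurd h hj⟩
  choose g hg using h
  exact ⟨g, hg⟩

variable {S}

/-- A word in the generators used. -/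
theorem word_val {g : ℕ → ↥(threeJ3 F ω)} (hg : ∀ j < USED.length, chM (g j) = toMS S.R.φ add4 9 (SLU.getD j []))
    (l : List ℕ) (hl : ∀ j ∈ l, j < USED.length) (v : List ℕ) :
    chM (wval g l) *ᵥ toV S.R.φ 9 v = toV S.R.φ 9 (wordS add4 mul4 SLU l v) := by
  induction l with
  | nil => simp [wordS]
  | cons j l ih =>
    have hj := hl j (by simp)
    rw [wval_cons, map_mul, ← Matrix.mulVec_mulVec, ih (fun b hb => hl b (by simp [hb])), hg j hj]
    obtain ⟨_, h2, _, h4, _, _⟩ := c_used j hj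
    rw [wordS, ← toV_actS S.R _ h2 (fun r hr p hp => Nat.le_of_ble_eq_true (List.all_eq_true.mp (List.all_eq_true.mp h4 r hr) p hp))]

variable (S)

/-- The letters. -/
theorem exists_letters : ∃ γ : ℕ → ↥(threeJ3 F ω), (∀ a < 2, chM (γ a) = toMS S.R.φ add4 9 (XA a)) ∧
    ∀ a < 2, γ (a + 2) = (γ a)⁻¹ := by
  obtain ⟨g, hg⟩ := exists_gU S
  refine ⟨fun a => if a < 2 then wval g (LWU a) else (wval g (LWU (a - 2)))⁻¹, ?_, ?_⟩
  · intro a ha
    simp only [ha, if_true]
    apply eq_of_units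
    intro j
    obtain ⟨c1, c2, c3, _, _⟩ := c_XA a ha
    rw [← toV_unitC S j, word_val hg _ c1, c2 j j.2, toV_actS S.R (XA a) c3.1 c3.2]
  · intro a ha
    simp only [ha, if_true, show ¬ (a + 2 < 2) by omega, if_false, Nat.add_sub_cancel]

variable {S}

section letters

variable {γ : ℕ → ↥(threeJ3 F ω)} (hX : ∀ a < 2, chM (γ a) = toMS S.R.φ add4 9 (XA a))
  (hI : ∀ a < 2, γ (a + 2) = (γ a)⁻¹)

include hX in
theorem hV2 : ∀ a < 2, ∀ i < 69768, V a i < 69768 ∧
    chM (γ a) *ᵥ toV S.R.φ 9 (pt i) = toV S.R.φ 9 (pt (V a i)) := by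
  intro a ha
  obtain ⟨_, _, _, c4, c5⟩ := c_XA a ha
  have h1 := hV_of_pack S.R (w := 2) (m := 4) (by norm_num) (by norm_num) c_xor _ (XA a) (hX a ha) (cols a) c4 c5 (V a) ptc 69768 (by
    intro i hi
    have h2 := hVall a ha i hi
    exact h2)
  intro i hi
  exact h1 i hi

include hX hI in
theorem hV : ∀ a < 4, ∀ i < 69768, V a i < 69768 ∧
    chM (γ a) *ᵥ toV S.R.φ 9 (pt i) = toV S.R.φ 9 (pt (V a i)) := by
  intro a ha i hi
  by_cases h : a < 2
  · exact hV2 hX a h i hi
  · obtain ⟨b, rfl⟩ : ∃ b, a = b + 2 := ⟨a - 2, by omega⟩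
    have hb : b < 2 := by omega
    obtain ⟨h1, h2⟩ := hVinv b hb i hi
    refine ⟨h1, ?_⟩
    have h3 := (hV2 hX b hb _ h1).2
    rw [h2] at h3
    rw [hI b hb, ← h3, Matrix.mulVec_mulVec, ← map_mul, inv_mul_cancel, map_one, Matrix.one_mulVec]

include hX hI in
theorem word_pt (w : List ℕ) (hw : ∀ a ∈ w, a < 4) (i : ℕ) (hi : i < 69768) : walk V w i < 69768 ∧
    chM (wval γ w) *ᵥ toV S.R.φ 9 (pt i) = toV S.R.φ 9 (pt (walk V w i)) :=
  word_pts chM (hV hX hI) w hw i hi

include hX hI in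
/-- A word fixing the base is trivial. -/
theorem heqE (w : List ℕ) (hw : ∀ a ∈ w, a < 4) (h : chkL bsL w = true) : wval γ w = 1 := by
  apply chM_inj
  rw [map_one]
  apply eq_of_units
  intro j
  rw [Matrix.one_mulVec]
  obtain ⟨h1, h2⟩ := c_bs j j.2
  have h3 := (word_pt hX hI w hw _ h1).2
  have h4 : walk V w (bsL.getD j 0) = bsL.getD j 0 :=
    Nat.eq_of_beq_eq_true (List.all_eq_true.mp h j (List.mem_range.mpr j.2))
  rw [h4, h2, toV_unitC S j] at h3
  exact h3

theorem toV_scal (c : ℕ) (hc : c < 4) (j : Fin 9) (v : List ℕ) (hv : v = (unitC 9 j).map (mul4 c)) :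
    toV S.R.φ 9 v = S.R.φ c • Pi.single j 1 := by
  subst hv
  ext i
  simp only [toV, Pi.smul_apply, smul_eq_mul]
  rw [List.getD_eq_getElem _ _ (by simp [unitC]), List.getElem_map, S.R.hmul]
  have h1 := congrFun (toV_unitC S j) i
  simp only [toV] at h1
  rw [List.getD_eq_getElem _ _ (by simp [unitC])] at h1
  rw [h1]

include hX hI in
/-- A word acting as a scalar on the base. -/
theorem scal_of_chk (w : List ℕ) (hw : ∀ a ∈ w, a < 4) (c : ℕ) (hc : c < 4) (L : List ℕ)
    (hL : ∀ j < 9, L.getD j 0 < 69768 ∧ pt (L.getD j 0) = (unitC 9 j).map (mul4 c))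
    (h : chkL L w = true) : chM (wval γ w) = S.R.φ c • (1 : Matrix (Fin 9) (Fin 9) F) := by
  apply eq_of_units
  intro j
  obtain ⟨h1, h2⟩ := c_bs j j.2
  have h3 := (word_pt hX hI w hw _ h1).2
  have h4 : walk V w (bsL.getD j 0) = L.getD j 0 :=
    Nat.eq_of_beq_eq_true (List.all_eq_true.mp h j (List.mem_range.mpr j.2))
  rw [h4, (hL j j.2).2, h2, toV_unitC S j, toV_scal (S := S) c hc j _ rfl] at h3
  rw [h3, Matrix.smul_mulVec, Matrix.one_mulVec]

theorem central_of_scal {g : ↥(threeJ3 F ω)} {c : F} (h : chM g = c • (1 : Matrix (Fin 9) (Fin 9) F)) :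
    g ∈ Subgroup.center ↥(threeJ3 F ω) := by
  rw [Subgroup.mem_center_iff]
  intro x
  apply chM_inj
  rw [map_mul, map_mul, h]
  simp

include hX hI in
theorem central_of_chk (w : List ℕ) (hw : ∀ a ∈ w, a < 4) (h : chk w = true) :
    wval γ w ∈ Subgroup.center ↥(threeJ3 F ω) := by
  simp only [chk, Bool.or_eq_true] at h
  rcases h with (h | h) | h
  · rw [heqE hX hI w hw h]
    exact one_mem _
  · exact central_of_scal (scal_of_chk hX hI w hw 2 (by norm_num) bs1L c_bs1 h)
  · exact central_of_scal (scal_of_chk hX hI w hw 3 (by norm_num) bs2L c_bs2 h)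

include hX hI in
/-- The letters generate the group. -/
theorem hclosure : Subgroup.closure (γ '' {a | a < 2 * 2}) = ⊤ := by
  set C := Subgroup.closure (γ '' {a | a < 2 * 2}) with hC
  have hw : ∀ w : List ℕ, (∀ a ∈ w, a < 4) → wval γ w ∈ C := by
    intro w
    induction w with
    | nil => intro _; exact one_mem _
    | cons a w ih =>
      intro hw
      exact mul_mem (Subgroup.subset_closure ⟨a, hw a (by simp), rfl⟩) (ih (fun b hb => hw b (by simp [hb])))
  have hM : threeJ3 F ω ≤ C.map (threeJ3 F ω).subtype := by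
    show Subgroup.closure _ ≤ _
    rw [Subgroup.closure_le]
    intro g hg
    obtain ⟨q, hq, e⟩ := mem_gens (F := F) (ω := ω) hg
    have hgm : g ∈ threeJ3 F ω := Subgroup.subset_closure hg
    refine ⟨wval γ (TW q), hw _ (c_TW q hq).1, ?_⟩
    have h1 : chM (wval γ (TW q)) = chM ⟨g, hgm⟩ := by
      apply eq_of_units
      intro j
      obtain ⟨c1, c2, c3, c4, c5⟩ := c_TW q hq
      obtain ⟨h1, h2⟩ := c_bs j j.2
      have h3 := (word_pt hX hI _ c1 _ h1).2
      rw [h2, toV_unitC S j] at h3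
      rw [h3, c5 j j.2, toV_actS S.R (SG q) c2 (fun r hr p hp => Nat.le_of_ble_eq_true (List.all_eq_true.mp (List.all_eq_true.mp c3 r hr) p hp)), toV_unitC S j]
      congr 1
      ext i k
      rw [chM_apply, genM_eq_toMS S q (SG q) c4]
      show _ = ((g : Matrix F9 F9 F)) (e9 i) (e9 k)
      rw [e]
    have h2 := congrArg Subtype.val (chM_inj h1)
    exact h2
  rw [eq_top_iff]
  intro x _
  obtain ⟨y, hy, e⟩ := hM x.2
  have : y = x := Subtype.ext e
  rwa [← this]

include hX hI in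
theorem hperfect (x : ↥(threeJ3 F ω)) : x ∈ commutator ↥(threeJ3 F ω) := by
  refine perfect_of_balanced 2 γ hI (hclosure hX hI) gwe c_gwe.1 ?_ c_gwe.2.1 x
  intro a ha
  have h1 := heqE hX hI (gwe a ++ [a + 2]) (by
    intro b hb
    rw [List.mem_append] at hb
    rcases hb with hb | hb
    · have := c_gwe.1 a ha b hb
      omega
    · simp only [List.mem_cons, List.not_mem_nil, or_false] at hb
      omega) (c_gwe.2.2 a ha)
  rw [wval_append, wval_cons, wval_nil, mul_one, hI a ha] at h1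
  exact mul_inv_eq_one.mp h1

include S in
/-- The characteristic. -/
theorem char2 : (2 : F) = 0 := by
  have h := S.R.hadd 1 1
  rw [show add4 1 1 = 0 by decide, S.R.h0, S.R.h1] at h
  rw [show (2 : F) = 1 + 1 by norm_num]
  exact h.symm

include hX hI in
/-- A central element is a scalar. -/
theorem central_scalar (g : ↥(threeJ3 F ω)) (hg : g ∈ Subgroup.center ↥(threeJ3 F ω)) :
    ∃ k, k < 4 ∧ k ≠ 0 ∧ chM g = S.R.φ k • (1 : Matrix (Fin 9) (Fin 9) F) := by
  have hcomm : ∀ x : ↥(threeJ3 F ω), chM g * chM x = chM x * chM g := by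
    intro x
    rw [← map_mul, ← map_mul, (Subgroup.mem_center_iff.mp hg x).symm]
  set e0 : Fin 9 → F := Pi.single 0 1 with he0
  have hb0 : toV S.R.φ 9 (pt (bsL.getD 0 0)) = e0 := by
    rw [(c_bs 0 (by norm_num)).2]
    exact toV_unitC S 0
  set u : Fin 9 → F := chM g *ᵥ e0 with hu
  -- the fixed vector
  have hfix : chM (wval γ wh) *ᵥ e0 = e0 := by
    have h3 := (word_pt hX hI wh c_wh.1 _ (c_bs 0 (by norm_num)).1).2
    rw [c_wh.2.1, hb0] at h3
    exact h3
  have hN : chM (wval γ wh) = LabMat.toM S.R.φ 9 Hc := by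
    apply eq_of_units
    intro j
    have h3 := (word_pt hX hI wh c_wh.1 _ (c_bs j j.2).1).2
    rw [(c_bs j j.2).2, toV_unitC S j, c_wh.2.2 j j.2, toV_colC] at h3
    rw [h3]
    ext i
    simp
  have hufix : LabMat.toM S.R.φ 9 Hc *ᵥ u = u := by
    rw [← hN, hu, Matrix.mulVec_mulVec, ← hcomm, ← Matrix.mulVec_mulVec, hfix]
  have hR : LabMat.toM S.R.φ 9 (LabMat.mulC add4 mul4 9 Qc Hc) *ᵥ u = LabMat.toM S.R.φ 9 Qc *ᵥ u := by
    rw [LabMat.toM_mulC S.R.hadd S.R.hmul S.R.h0, ← Matrix.mulVec_mulVec, hufix]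
  have hu0 : ∀ i : Fin 9, (i : ℕ) ≠ 0 → u i = 0 := by
    intro i hi
    have h1 := congrFun hR i
    have h2 : ∀ k : Fin 9, S.R.φ (add4 ((LabMat.mulC add4 mul4 9 Qc Hc).getD (i * 9 + k) 0) (Qc.getD (i * 9 + k) 0)) = if k = i then 1 else 0 := by
      intro k
      rw [c_Q i i.2 hi k k.2]
      by_cases hk : k = i
      · subst hk
        simp [S.R.h1]
      · have : (k : ℕ) ≠ i := fun h => hk (Fin.ext h)
        simp [hk, this, S.R.h0]
    have h3 : u i = ∑ k : Fin 9, S.R.φ (add4 ((LabMat.mulC add4 mul4 9 Qc Hc).getD (i * 9 + k) 0) (Qc.getD (i * 9 + k) 0)) * u k := by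
      simp only [h2]
      simp
    rw [h3]
    simp only [S.R.hadd, add_mul]
    rw [Finset.sum_add_distrib]
    have h4 : (LabMat.toM S.R.φ 9 (LabMat.mulC add4 mul4 9 Qc Hc) *ᵥ u) i = ∑ k : Fin 9, S.R.φ ((LabMat.mulC add4 mul4 9 Qc Hc).getD (i * 9 + k) 0) * u k := rfl
    have h5 : (LabMat.toM S.R.φ 9 Qc *ᵥ u) i = ∑ k : Fin 9, S.R.φ (Qc.getD (i * 9 + k) 0) * u k := rfl
    rw [← h4, ← h5, h1, ← two_mul, char2 (S := S), zero_mul]
  obtain ⟨k, hk, hkc⟩ := S.R.hsurj (u 0)
  have hue : u = S.R.φ k • e0 := by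
    ext i
    by_cases hi : (i : ℕ) = 0
    · have : i = 0 := Fin.ext hi
      subst this
      simp [he0, hkc]
    · have hi' : i ≠ 0 := fun h => hi (by rw [h]; rfl)
      rw [hu0 i hi]
      simp [he0, hi']
  have hg1 : chM g = S.R.φ k • (1 : Matrix (Fin 9) (Fin 9) F) := by
    apply eq_of_units
    intro j
    obtain ⟨c1, c2⟩ := c_wj j j.2
    have h3 : chM (wval γ (wj j)) *ᵥ e0 = Pi.single j 1 := by
      have h3 := (word_pt hX hI (wj j) c1 _ (c_bs 0 (by norm_num)).1).2
      rw [c2, (c_bs j j.2).2, toV_unitC S j, hb0] at h3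
      exact h3
    rw [Matrix.smul_mulVec, Matrix.one_mulVec, ← h3, Matrix.mulVec_mulVec, hcomm, ← Matrix.mulVec_mulVec, ← hu, hue, Matrix.mulVec_smul]
  refine ⟨k, hk, ?_, hg1⟩
  rintro rfl
  have h1 : chM g * chM g⁻¹ = 1 := by rw [← map_mul, mul_inv_cancel, map_one]
  rw [hg1, S.R.h0, zero_smul, zero_mul] at h1
  have h2 := congrFun (congrFun h1 0) 0
  simp at h2

include S in
theorem omega_ne_one : ω ≠ 1 := by
  intro h
  have h1 := S.R.hinj 2 1 (by norm_num) (by norm_num) (by rw [S.h2, S.R.h1, h])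
  omega

theorem omega_cube (hω : ω ^ 2 + ω + 1 = 0) : ω ^ 3 = 1 := by
  linear_combination (ω - 1) * hω

include hX hI in
/-- The centre has order three. -/
theorem card_center (hω : ω ^ 2 + ω + 1 = 0) : Nat.card ↥(Subgroup.center ↥(threeJ3 F ω)) = 3 := by
  classical
  have hs : chM (wval γ wS) = ω • (1 : Matrix (Fin 9) (Fin 9) F) := by
    have := scal_of_chk hX hI wS c_wS.1 2 (by norm_num) bs1L c_bs1 c_wS.2
    rwa [S.h2] at this
  set s := wval γ wS with hsd
  have hsc : s ∈ Subgroup.center ↥(threeJ3 F ω) := central_of_scal hs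
  have hs3 : s ^ 3 = 1 := by
    apply chM_inj
    rw [map_pow, hs, map_one, smul_pow, one_pow, omega_cube hω, one_smul]
  have hs1 : s ≠ 1 := by
    intro h
    rw [h, map_one] at hs
    have h2 := congrFun (congrFun hs 0) 0
    simp at h2
    exact omega_ne_one (S := S) h2.symm
  have ho : orderOf s = 3 := orderOf_eq_prime hs3 hs1
  have hd : 3 ∣ Nat.card ↥(Subgroup.center ↥(threeJ3 F ω)) := by
    have h1 := orderOf_dvd_natCard (⟨s, hsc⟩ : ↥(Subgroup.center ↥(threeJ3 F ω)))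
    rwa [Subgroup.orderOf_mk, ho] at h1
  -- at most three
  have hex : ∀ g : ↥(Subgroup.center ↥(threeJ3 F ω)), ∃ k : Fin 3,
      chM g.1 = S.R.φ ((k : ℕ) + 1) • (1 : Matrix (Fin 9) (Fin 9) F) := by
    intro g
    obtain ⟨k, h1, h2, h3⟩ := central_scalar hX hI g.1 g.2
    exact ⟨⟨k - 1, by omega⟩, by simpa [Nat.sub_add_cancel (Nat.one_le_iff_ne_zero.mpr h2)] using h3⟩
  choose f hf using hex
  have hinj : Function.Injective f := by
    intro a b h
    apply Subtype.ext
    apply chM_inj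
    rw [hf, hf, h]
  have hfin : Finite ↥(Subgroup.center ↥(threeJ3 F ω)) := Finite.of_injective f hinj
  have hle := Nat.card_le_card_of_injective f hinj
  rw [Nat.card_fin] at hle
  have hpos : 0 < Nat.card ↥(Subgroup.center ↥(threeJ3 F ω)) := Nat.card_pos
  obtain ⟨t, ht⟩ := hd
  omega

include hX hI in
/-- The order of the group. -/
theorem card_ge [Finite ↥(threeJ3 F ω)] : 150698880 ≤ Nat.card ↥(threeJ3 F ω) := by
  have hP : ∀ i < 69768, ∀ j < 69768, toV S.R.φ 9 (pt i) = toV S.R.φ 9 (pt j) → i = j := by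
    have hmono : ∀ i j, i < j → j < 69768 → ptc i < ptc j := by
      intro i j hij
      induction j, hij using Nat.le_induction with
      | base =>
        intro h
        exact Nat.le_of_ble_eq_true (c_incr i (by omega))
      | succ j hj ih =>
        intro h
        exact lt_trans (ih (by omega)) (Nat.le_of_ble_eq_true (c_incr j (by omega)))
    have hlen : ∀ i, (pt i).length = 9 := by
      intro i
      simp [pt, dgC]
    intro i hi j hj e
    have h3 : pt i = pt j := by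
      apply List.ext_getElem (by rw [hlen, hlen])
      intro k hk1 hk2
      have hk : k < 9 := by rwa [hlen] at hk1
      have h4 := congrFun e ⟨k, hk⟩
      simp only [toV] at h4
      rw [List.getD_eq_getElem _ _ hk1, List.getD_eq_getElem _ _ hk2] at h4
      exact S.R.hinj _ _ ((c_enc i hi).2 _ (List.getElem_mem hk1)) ((c_enc j hj).2 _ (List.getElem_mem hk2)) h4
    have h5 : ptc i = ptc j := by
      rw [← (c_enc i hi).1, ← (c_enc j hj).1, h3]
    rcases lt_trichotomy i j with h | h | h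
    · exact absurd h5 (hmono i j h hj).ne
    · exact h
    · exact absurd h5.symm (hmono j i h hi).ne
  have h := card_ge_levels chM γ V (fun i => toV S.R.φ 9 (pt i)) 4 69768 (hV hX hI) hP Lv c_levels
  rwa [c_Lv] at h

end letters

end main

end Rp

open Rp in
/-- The multiplier of the group. -/
theorem result {F : Type*} [Field F] [Fintype F] (hF : Fintype.card F = 4) (ω : F) (hω : ω ^ 2 + ω + 1 = 0) :
    Cfsg.HasCyclicSchurMultiplier (Cfsg.Spor.J3 F ω) 3 := by
  classical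
  obtain ⟨S⟩ := exists_R4 hF hω
  obtain ⟨γ, hX, hI⟩ := exists_letters S
  have hclo := hclosure hX hI
  have hcc := card_center hX hI hω
  -- the letters of the quotient
  set π : ↥(threeJ3 F ω) →* Cfsg.Spor.J3 F ω := QuotientGroup.mk' _ with hπ
  set g : ℕ → Cfsg.Spor.J3 F ω := fun a => π (γ a) with hg
  have hgi : ∀ a < 2, g (a + 2) = (g a)⁻¹ := by
    intro a ha
    simp only [hg, hI a ha, map_inv]
  have hgen : Subgroup.closure (g '' {a | a < 2 * 2}) = ⊤ := by
    have h1 : g '' {a | a < 2 * 2} = π '' (γ '' {a | a < 2 * 2}) := by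
      rw [Set.image_image]
    rw [h1, ← MonoidHom.map_closure, hclo, ← MonoidHom.range_eq_map, MonoidHom.range_eq_top]
    exact QuotientGroup.mk'_surjective _
  have hwv : ∀ w : List ℕ, wval g w = π (wval γ w) := by
    intro w
    rw [map_wval]
  have heq : ∀ w : List ℕ, (∀ a ∈ w, a < 4) → chk w = true → wval g w = 1 := by
    intro w hw h
    rw [hwv]
    exact (QuotientGroup.eq_one_iff _).mpr (central_of_chk hX hI w hw h)
  have hcard : Nat.card (Cfsg.Spor.J3 F ω) = 50232960 := by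
    apply le_antisymm (card_le g hgi hgen heq)
    have h1 := card_ge hX hI
    have h2 := Subgroup.card_eq_card_quotient_mul_card_subgroup (Subgroup.center ↥(threeJ3 F ω))
    rw [hcc] at h2
    have h3 : Nat.card (Cfsg.Spor.J3 F ω) = Nat.card (↥(threeJ3 F ω) ⧸ Subgroup.center ↥(threeJ3 F ω)) := rfl
    omega
  refine ⟨⟨↥(threeJ3 F ω), inferInstance, inferInstance, π, ⟨QuotientGroup.mk'_surjective _, ?_, ?_⟩, ?_⟩, ?_⟩
  · rw [hπ, QuotientGroup.ker_mk']
  · intro x _
    exact hperfect hX hI x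
  · have h1 : Nat.card ↥π.ker = 3 := by
      rw [hπ, QuotientGroup.ker_mk']
      exact hcc
    have h2 : Nat.card (Multiplicative (ZMod 3)) = 3 := by
      simp [Nat.card_eq_fintype_card, ZMod.card]
    have : Fact (Nat.Prime 3) := ⟨by norm_num⟩
    exact ⟨mulEquivOfPrimeCardEq h1 h2⟩
  · intro Γ _ _ σ hσ
    obtain ⟨f, h1, h2⟩ := upper g hgi hgen heq hcard Γ σ hσ
    have h3 : f gv0 ^ 3 = 1 := by
      have := h2 gv0 ((3 : ℕ) : ℤ) wN0 hN0
      rwa [zpow_natCast] at this
    refine Cfsg.Agent.Lib.KnownSimple.Lab.exists_surj_zmod (f gv0) 3 h3 ?_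
    intro x
    have h5 := h1 x
    have h6 : f '' {v | v ∈ gvs} = {f gv0} := by
      ext y
      simp [gvs]
    rw [h6, ← Subgroup.zpowers_eq_closure] at h5
    exact h5

end Cfsg.Agent.Lib.KnownSimple.J3Lab
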