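import Cfsg.Agent.Lib.KnownSimple.J3Lab.Letters
import Cfsg.Agent.Lib.KnownSimple.LabJ3

/-! Data of the generating matrices. -/

set_option autoImplicit false
set_option maxRecDepth 100000

namespace Cfsg.Agent.Lib.KnownSimple.J3Lab

open Cfsg.Agent.Lib.KnownSimple.Lab Cfsg.Agent.Lib.KnownSimple.LabMat Cfsg.Agent.Lib.KnownSimple.LabField
open Cfsg.Agent.Lib.KnownSimple.LabVec Cfsg.Agent.Lib.KnownSimple.LabChev Cfsg.Agent.Lib.KnownSimple.LabPack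
open Cfsg.Agent.Lib.KnownSimple.LabLevels Cfsg.Agent.Lib.KnownSimple.LabJ3

/-- The generators used. -/
def USED : List ℕ := [31, 30, 1, 37, 19, 21]

/-- The generators used, as sparse matrices. -/
def SLU : List (List (List (ℕ × ℕ))) := [[[(0,1)],[(5,1)],[(7,1)],[(8,1)],[(1,1)],[(3,1)],[(4,1)],[(6,1)],[(2,1)]],
  [[(0,1)],[(6,1)],[(3,1)],[(1,1)],[(7,1)],[(4,1)],[(2,1)],[(8,1)],[(5,1)]],
  [[(0,1)],[(1,2)],[(2,3)],[(3,1)],[(4,2)],[(5,3)],[(6,1)],[(7,2)],[(8,3)]],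
  [[(0,1)],[(2,1),(3,1),(6,1)],[(1,1),(3,1),(6,1)],[(1,1),(2,1),(3,1)],[(4,1),(7,1),(8,1)],[(5,1),(7,1),(8,1)],[(1,1),(2,1),(6,1)],[(4,1),(5,1),(7,1)],[(4,1),(5,1),(8,1)]],
  [[(2,1)],[(0,1)],[(1,1)],[(5,1)],[(3,1)],[(4,2)],[(8,1)],[(6,1)],[(7,3)]],
  [[(6,1)],[(7,1)],[(8,1)],[(0,1)],[(1,1)],[(2,1)],[(3,1)],[(4,3)],[(5,2)]]]

/-- The inverses of the generators used, as sparse matrices. -/
def SIU : List (List (List (ℕ × ℕ))) := [[[(0,1)],[(4,1)],[(8,1)],[(5,1)],[(6,1)],[(1,1)],[(7,1)],[(2,1)],[(3,1)]],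
  [[(0,1)],[(3,1)],[(6,1)],[(2,1)],[(5,1)],[(8,1)],[(1,1)],[(4,1)],[(7,1)]],
  [[(0,1)],[(1,3)],[(2,2)],[(3,1)],[(4,3)],[(5,2)],[(6,1)],[(7,3)],[(8,2)]],
  [[(0,1)],[(2,1),(3,1),(6,1)],[(1,1),(3,1),(6,1)],[(1,1),(2,1),(3,1)],[(4,1),(7,1),(8,1)],[(5,1),(7,1),(8,1)],[(1,1),(2,1),(6,1)],[(4,1),(5,1),(7,1)],[(4,1),(5,1),(8,1)]],
  [[(1,1)],[(2,1)],[(0,1)],[(4,1)],[(5,3)],[(3,1)],[(7,1)],[(8,2)],[(6,1)]],
  [[(3,1)],[(4,1)],[(5,1)],[(6,1)],[(7,2)],[(8,3)],[(0,1)],[(1,1)],[(2,1)]]]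

/-- The words of the letters. -/
def LWU (a : ℕ) : List ℕ := ([[0, 1, 2, 0, 3, 4, 4, 0, 4, 5, 3, 5, 4, 1], [2, 5, 4, 0, 3, 2, 0, 0, 2, 3, 5, 3, 2, 0, 5, 0]] : List (List ℕ)).getD a []

/-- The letters, as sparse matrices. -/
def XAL : List (List (List (ℕ × ℕ))) := [[[(3,2),(4,2),(8,1)],[(0,2),(1,1),(2,3),(4,3),(8,2)],[(1,2),(2,2),(3,3),(4,1),(6,3),(7,2),(8,1)],[(0,3),(2,2),(3,3),(4,1),(6,3),(7,2),(8,1)],[(0,1),(1,3),(2,1),(3,1),(4,1),(5,3),(6,1)],[(0,3),(1,2),(5,1),(6,2),(7,3)],[(0,2),(1,1),(2,2),(3,2),(8,1)],[(0,1),(1,3),(2,3),(3,3),(4,3),(6,3),(7,1)],[(0,3),(1,2),(2,1),(3,1),(4,1),(5,3),(7,2)]],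
  [[(0,3),(1,2),(3,2),(4,3),(6,2),(7,2),(8,2)],[(0,3),(1,1),(2,1),(3,1),(5,3),(6,1),(8,3)],[(0,2),(1,3),(2,3),(3,3),(6,1),(7,3),(8,3)],[(1,2),(2,3),(3,3),(5,2),(6,2),(7,1),(8,2)],[(1,3),(5,2),(7,3)],[(0,3),(2,1),(3,3),(5,2),(6,1),(7,3),(8,3)],[(0,2),(2,3),(4,1),(6,1),(8,3)],[(0,3),(1,1),(2,3),(3,2),(5,1),(7,3),(8,2)],[(0,1),(1,1),(2,1),(3,1),(4,2),(6,3),(7,1)]]]

/-- The letters, as sparse matrices. -/
def XA (a : ℕ) : List (List (ℕ × ℕ)) := XAL.getD a []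

/-- The columns of the letters. -/
def colsL : List (List (List ℕ)) := [[[0, 224712, 112204, 187268], [0, 187172, 224568, 112156], [0, 123308, 160500, 234328], [0, 123378, 160339, 234401], [0, 115038, 148135, 230393], [0, 198400, 67840, 134656], [0, 51696, 20048, 34720], [0, 150688, 230640, 116816], [0, 4185, 8366, 12535]], [[0, 125999, 160821, 235546], [0, 82870, 164315, 246381], [0, 128244, 153688, 240812], [0, 101622, 181339, 215213], [0, 135171, 204801, 77826], [0, 19084, 36804, 50504], [0, 201878, 76011, 146557], [0, 118642, 148883, 232161], [0, 48318, 54487, 26729]]]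

/-- The columns of the letters. -/
def cols (a : ℕ) : List (List ℕ) := colsL.getD a []

end Cfsg.Agent.Lib.KnownSimple.J3Lab
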